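import Cfsg.Agent.Wong.Prim

/-!
# Non-maximality of certain symmetric groups of degree four
-/

set_option autoImplicit false
set_option linter.unusedSectionVars false

namespace Cfsg.Agent.Wong

open Subgroup Cfsg.Agent.Local MulAction
open scoped Pointwise MatrixGroups

variable {G : Type*} [Group G] [Finite G]

theorem one_class (H2 : ∀ M : Subgroup G, M.index ≠ 2) {a u : G} {n : ℕ} (ord : orderOf a = 2 ^ (n + 1))
    (uN : u * a * u⁻¹ ∈ zpowers a) (uu : u * u = 1) (nb : u ∉ zpowers a)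
    (syl : ¬ 2 ^ (n + 3) ∣ Nat.card G) {t : G} (h1 : t ≠ 1) (ht : t * t = 1) : IsConj (a ^ 2 ^ n) t := by
  have h2 := zpowers_le.mp (norm_zpowers uN)
  obtain ⟨g, hg⟩ := CIT.thompson_transfer H2 (S := zpowers a ⊔ zpowers u) (by
    rw [← Nat.not_even_iff_odd, even_iff_two_dvd]
    refine fun e => syl ?_
    rw [← (zpowers a ⊔ zpowers u).card_mul_index, card_sup2 h2 (uu ▸ one_mem _) nb, Nat.card_zpowers, ord,
      ← pow_succ, pow_succ 2 (n + 1 + 1)]
    exact Nat.mul_dvd_mul_left _ e) le_sup_left (relIndex_sup2 h2 (uu ▸ one_mem _) nb) ht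
  refine isConj_iff.mpr ⟨g, ?_⟩
  rw [← CIT.eq_of_sq_eq_one ord hg (CIT.inv_conj_ne_one h1) (by simpa using CIT.conj_sq (g := g⁻¹) ht)]
  group

open M11 in
theorem not_m11 (e : G ≃* Mx) {z u w g : G} (z1 : z ≠ 1) (zz : z * z = 1) (uu : u * u = 1)
    (cu : Commute u z) (huw : u * w = w * u * z) (gz : Commute g z)
    (gu : g * u * g⁻¹ = w) : ∃ M : Subgroup G, M ≠ ⊤ ∧ g ∈ M ∧
      normalizer ((zpowers z ⊔ zpowers u : Subgroup G) : Set G) ≤ M := by
  let _ : MulAction G (Fin 11) := MulAction.compHom _ (Mx.subtype.comp e.toMonoidHom)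
  have hpa : pa ∈ Mx := subset_closure ⟨0, by decide, rfl⟩
  have hpb : pb ∈ Mx := subset_closure ⟨1, by decide, rfl⟩
  obtain ⟨a, b, c, hF⟩ : ∃ a b c : Fin 11, (∀ p, z • p = p ↔ p = a ∨ p = b ∨ p = c) := by
    obtain ⟨x, h1, h2⟩ := exists_reps
    have h3 : ∀ s : Mx, orderOf s = 2 → IsConj (x 4) s := fun s hs => by
      obtain ⟨j, hj⟩ := h1 s
      have h4 := (h2 j).symm.trans ((orderOf_eq_of_isConj hj).trans hs)
      obtain rfl : j = 4 := by revert h4; clear hj; revert j; decide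
      exact hj
    obtain ⟨k, hk⟩ := isConj_iff.mp ((h3 ⟨_, mul_mem hpb hpb⟩ (CIT.orderOf_eq_two
      (fun e => (by decide : pb * pb ≠ 1) (congrArg Subtype.val e))
      (Subtype.ext (by decide : pb * pb * (pb * pb) = 1)))).symm.trans
      (h3 (e z) ((e.orderOf_eq z).trans (CIT.orderOf_eq_two z1 zz))))
    refine ⟨k.1 0, k.1 1, k.1 8, fun p => ?_⟩
    obtain ⟨p, rfl⟩ := k.1.surjective p
    change (e z).1 _ = _ ↔ _
    rw [← hk]
    simp only [coe_mul, InvMemClass.coe_inv, Equiv.Perm.mul_apply, Equiv.Perm.coe_inv,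
      Equiv.symm_apply_apply, EmbeddingLike.apply_eq_iff_eq]
    revert p; decide
  have fz : ∀ {x : G} {p : Fin 11}, Commute x z → z • p = p → z • x • p = x • p := fun h hp => by
    rw [← mul_smul, ← h.eq, mul_smul, hp]
  have cw : Commute w z := gu ▸ (gz.mul_left cu).mul_left gz.inv_left
  have three : ∀ p q r s : Fin 11, z • p = p → z • q = q → z • r = r → z • s = s → p ≠ q → p ≠ r →
      q ≠ r → s = p ∨ s = q ∨ s = r := fun p q r s hp hq hr hs => by
    rw [hF] at hp hq hr hs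
    omega
  have one : ∀ x : G, Commute x z → ∀ p r s : Fin 11, z • p = p → x • p ≠ p → z • r = r → x • r = r →
      z • s = s → x • s = s → s = r := fun x cx p r s hp h1 hr h2 hs h3 => by
    have h4 : ∀ r : Fin 11, x • r = r → x • p ≠ r := fun r hr e => h1 (by
      rw [← smul_left_cancel x (e.trans hr.symm)] at hr; exact hr)
    rcases three p _ r s hp (fz cx hp) hr hs h1.symm (fun e => h1 (e ▸ h2)) (h4 r h2) with e | e | e
    · exact absurd (e ▸ h3) h1
    · exact absurd e.symm (h4 s h3)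
    · exact e
  let F : Set (Fin 11) := {p | z • p = p ∧ u • p = p}
  have hg : ∀ p ∈ F, g • p ∈ F := fun p hp => by
    refine ⟨fz gz hp.1, ?_⟩
    by_contra h
    have h1 : w • g • p = g • p := by rw [← gu, mul_smul, mul_smul, inv_smul_smul, hp.2]
    refine h (one w cw (g • g • p) _ _ (fz gz (fz gz hp.1)) (fun e => h ?_)
      (fz gz hp.1) h1 (fz cu (fz gz hp.1)) ?_)
    · rwa [← gu, mul_smul, mul_smul, inv_smul_smul, smul_left_cancel_iff] at e
    · rw [← mul_smul, show w * u = u * w * z by rw [huw, mul_assoc _ z, zz, mul_one], mul_smul, mul_smul,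
        fz gz hp.1, h1]
  have st : ∀ x : G, (∀ p ∈ F, x • p ∈ F) → x ∈ stabilizer G F := fun x hx =>
    Set.eq_of_subset_of_ncard_le (by rintro _ ⟨p, hp, rfl⟩; exact hx p hp) (Set.ncard_smul_set x F).ge
  refine ⟨stabilizer G F, fun h => ?_, st g hg, fun x hx => st x fun p hp => ?_⟩
  · obtain ⟨p, hp⟩ : F.Nonempty := by
      have := Fact.mk Nat.prime_two
      obtain ⟨p, hp⟩ := IsPGroup.nonempty_fixed_point_of_prime_not_dvd_card (G := ↥(zpowers z ⊔ zpowers u))
        (IsPGroup.to_sup_of_normal_left' (CIT.two_of_sq zz).isPGroup (CIT.two_of_sq uu).isPGroup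
          (norm_zpowers (by simp [cu.eq]))) (Fin 11) (by simp)
      exact ⟨p, hp ⟨z, mem_sup_left (mem_zpowers z)⟩, hp ⟨u, mem_sup_right (mem_zpowers u)⟩⟩
    have h1 : ∀ p ∈ F, pa p ∈ F := fun p hp => by
      have h1 : e.symm ⟨pa, hpa⟩ • F = F := h.ge (mem_top _)
      rw [← h1]
      exact ⟨p, hp, by change (e _).1 _ = _; simp⟩
    have h2 := three _ _ _ _ hp.1 (h1 _ hp).1 (h1 _ (h1 _ hp)).1 (h1 _ (h1 _ (h1 _ hp))).1
    clear hp; revert h2 p; decide
  · have h1 : zpowers z ⊔ zpowers u ≤ stabilizer G p := sup_le (zpowers_le.mpr hp.1) (zpowers_le.mpr hp.2)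
    have h2 : ∀ v ∈ zpowers z ⊔ zpowers u, v • x • p = x • p := fun v hv => by
      have h2 : (x⁻¹ * v * x) • p = p := h1 (inv_conj_mem_of_mem_normalizer hx hv)
      rwa [mul_smul, mul_smul, inv_smul_eq_iff] at h2
    exact ⟨h2 z (mem_sup_left (mem_zpowers z)), h2 u (mem_sup_right (mem_zpowers u))⟩

theorem psl2_max {F : Type*} [Field F] [Finite F] (h2 : (2 : F) ≠ 0)
    (e : G ≃* Matrix.ProjectiveSpecialLinearGroup (Fin 2) F) {z u : G} (z1 : z ≠ 1) (u1 : u ≠ 1)
    (zu1 : z * u ≠ 1) (zz : z * z = 1) (uu : u * u = 1) (cu : Commute u z) {H : Subgroup G}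
    (co : IsCoatom H) (hH : ∀ h ∈ H, ∀ v, v = z ∨ v = u ∨ v = z * u → h * v * h⁻¹ = z ∨ h * v * h⁻¹ = u ∨
      h * v * h⁻¹ = z * u) (Λ : Subring F) {α β γ : F} (hα : α ∈ Λ) (hβ : β ∈ Λ) (hγ : γ ∈ Λ)
    (α0 : α ≠ 0) (β0 : β ≠ 0) (γ0 : γ ≠ 0) (h1 : α ^ 2 + β ^ 2 + γ ^ 2 = 1) (x : F) : x ∈ Λ := by
  let π : SL(2, F) →* G := e.symm.toMonoidHom.comp (QuotientGroup.mk' _)
  have surj : Function.Surjective π := e.symm.surjective.comp (QuotientGroup.mk'_surjective _)
  have ker : ∀ A B : SL(2, F), π A = π B → A.1 = B.1 ∨ A.1 = -B.1 := fun A B h => by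
    obtain ⟨r, h3, h4⟩ := Matrix.SpecialLinearGroup.mem_center_iff.mp (QuotientGroup.eq.mp
      (e.symm.injective h.symm))
    have h5 : A.1 = B.1 * Matrix.scalar (Fin 2) r := by
      rw [h4, ← Matrix.SpecialLinearGroup.coe_mul, mul_inv_cancel_left]
    rcases sq_eq_one_iff.mp (show r ^ 2 = 1 from h3) with rfl | rfl
    · simp [h5]
    · rw [map_neg, map_one] at h5; simp [h5]
  have ent : ∀ {A B : Matrix (Fin 2) (Fin 2) F}, A = B → A 0 0 = B 0 0 ∧ A 0 1 = B 0 1 ∧ A 1 0 = B 1 0 ∧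
    A 1 1 = B 1 1 := by rintro _ _ rfl; exact ⟨rfl, rfl, rfl, rfl⟩
  have sqn : ∀ A : SL(2, F), π A ≠ 1 → π A * π A = 1 → A.1 * A.1 = -1 ∧ A.1 0 0 + A.1 1 1 = 0 := by
    intro A h3 h4
    have h5 := A.2
    rw [Matrix.det_fin_two] at h5
    rcases ker (A * A) 1 (by rw [map_mul, h4, map_one]) with h | h <;> have h6 := ent h <;>
      simp [Matrix.mul_apply, Fin.sum_univ_two] at h6 <;> obtain ⟨a1, a2, a3, a4⟩ := h6
    · have h7 : A 0 0 + A 1 1 ≠ 0 := fun e => h2 (by linear_combination A 0 0 * e - a1 - h5)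
      have h8 : A 0 1 = 0 := (mul_eq_zero.mp (by linear_combination a2)).resolve_left h7
      have h9 : A 1 0 = 0 := (mul_eq_zero.mp (by linear_combination a3)).resolve_left h7
      refine absurd ?_ h3
      change e.symm _ = 1
      rw [EmbeddingLike.map_eq_one_iff]
      refine (QuotientGroup.eq_one_iff _).mpr (Matrix.SpecialLinearGroup.mem_center_iff.mpr ⟨A 0 0, ?_, ?_⟩)
      · rw [Fintype.card_fin]; linear_combination a1 - A 1 0 * h8
      · ext i j; fin_cases i <;> fin_cases j <;> simp [h8, h9]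
        exact mul_left_cancel₀ h7 (by linear_combination a1 - a4)
    · exact ⟨h, pow_eq_zero_iff two_ne_zero |>.mp (by linear_combination a1 + a4 + 2 * h5)⟩
  have inv : ∀ A : SL(2, F), A.1 * A.1 = -1 → (A⁻¹).1 = -A.1 := fun A h => by
    rw [← mul_one (A⁻¹).1, ← neg_neg (1 : Matrix _ _ F), ← h, mul_neg, ← mul_assoc,
      ← Matrix.SpecialLinearGroup.coe_mul, inv_mul_cancel]; simp
  obtain ⟨I, rfl⟩ := surj z
  obtain ⟨J, rfl⟩ := surj u
  obtain ⟨ii, ti⟩ := sqn I z1 zz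
  obtain ⟨jj, tj⟩ := sqn J u1 uu
  obtain ⟨kk, tk⟩ := sqn (I * J) (map_mul π I J ▸ zu1) (by
    rw [map_mul, mul_assoc, ← mul_assoc (π J), cu.eq, mul_assoc, uu, mul_one, zz])
  obtain ⟨K, hK⟩ : ∃ K, K = I * J := ⟨_, rfl⟩
  have ij : I.1 * J.1 = K.1 := by rw [hK]; rfl
  rw [← hK] at kk tk
  have ik : I.1 * K.1 = -J.1 := by rw [← ij, ← mul_assoc, ii]; simp
  have kj : K.1 * J.1 = -I.1 := by rw [← ij, mul_assoc, jj]; simp
  have ji : J.1 * I.1 = -K.1 := by
    have : I.1 * (K.1 * K.1) * J.1 = (I.1 * K.1) * I.1 * (J.1 * J.1) := by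
      nth_rewrite 2 [← ij]; simp only [mul_assoc]
    rw [kk, ik, jj] at this
    simpa [ij] using this.symm
  have ki : K.1 * I.1 = J.1 := by rw [← ij, mul_assoc, ji, mul_neg, ik, neg_neg]
  have jk : J.1 * K.1 = I.1 := by rw [← ij, ← mul_assoc, ji, neg_mul, kj, neg_neg]
  let R := Submodule.span Λ {I.1, J.1, K.1}
  have mI : I.1 ∈ R := Submodule.subset_span (by simp)
  have mJ : J.1 ∈ R := Submodule.subset_span (by simp)
  have mK : K.1 ∈ R := Submodule.subset_span (by simp)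
  have sm : ∀ {a : F} {A}, a ∈ Λ → A ∈ R → a • A ∈ R := fun {a _} ha hA => R.smul_mem (⟨a, ha⟩ : Λ) hA
  let W0 : Submonoid SL(2, F) :=
    { carrier := {g | ∀ A ∈ R, g.1 * A * (g⁻¹).1 ∈ R}
      one_mem' := fun A hA => by simpa using hA
      mul_mem' := fun {a b} ha hb A hA => by simpa [mul_assoc] using ha _ (hb A hA) }
  let W : Subgroup SL(2, F) := { W0 with
    inv_mem' := fun {g} hg => by
      obtain ⟨n, hn⟩ := mem_powers_iff_mem_zpowers.mpr (inv_mem (mem_zpowers g))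
      exact hn ▸ W0.pow_mem hg n }
  have gen : ∀ g : SL(2, F), (∀ v, v = I ∨ v = J ∨ v = K → g.1 * v.1 * (g⁻¹).1 ∈ R) → g ∈ W := by
    intro g h A hA
    induction hA using Submodule.span_induction with
    | mem A hA => rcases hA with rfl | rfl | rfl <;> exact h _ (by simp)
    | zero => simp
    | add A B _ _ a b => rw [mul_add, add_mul]; exact add_mem a b
    | smul a A _ h => rw [Matrix.mul_smul, Matrix.smul_mul]; exact R.smul_mem a h
  have conj : ∀ g v : SL(2, F), π g ∈ H → v = I ∨ v = J ∨ v = K → ∃ w : SL(2, F), (w = I ∨ w = J ∨ w = K) ∧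
      (g.1 * v.1 * (g⁻¹).1 = w.1 ∨ g.1 * v.1 * (g⁻¹).1 = -w.1) := fun g v hg hv => by
    rcases hH _ hg (π v) (by rcases hv with rfl | rfl | rfl <;> simp [hK]) with h | h | h
    · exact ⟨I, by simp, ker (g * v * g⁻¹) I (by simpa using h)⟩
    · exact ⟨J, by simp, ker (g * v * g⁻¹) J (by simpa using h)⟩
    · exact ⟨K, by simp, ker (g * v * g⁻¹) K (by simpa [hK] using h)⟩
  obtain ⟨r, hr⟩ : ∃ r, r = α • I.1 + β • J.1 + γ • K.1 := ⟨_, rfl⟩
  have mr : r ∈ R := hr ▸ add_mem (add_mem (sm hα mI) (sm hβ mJ)) (sm hγ mK)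
  have rr : r * r = -1 := by
    rw [← one_smul F (-1), ← h1, hr]
    simp only [mul_add, add_mul, smul_mul_assoc, mul_smul_comm, ii, jj, kk, ij, ji, ik, ki, jk, kj]
    module
  have hd : r.det = 1 := by
    have h3 := (ent rr).1
    have h4 : r 0 0 + r 1 1 = 0 := by simp [hr]; linear_combination α * ti + β * tj + γ * tk
    simp [Matrix.mul_apply, Fin.sum_univ_two] at h3
    rw [Matrix.det_fin_two]; linear_combination r 0 0 * h4 - h3
  have anti : ∀ (v : Matrix (Fin 2) (Fin 2) F) (a : F), r * v + v * r = (-2 * a) • (1 : Matrix _ _ F) →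
      r * v * (⟨r, hd⟩⁻¹ : SL(2, F)).1 = (2 * a) • r - v := fun v a h => by
    rw [inv ⟨r, hd⟩ rr, eq_sub_of_add_eq h]
    simp only [mul_neg, sub_mul, mul_assoc, rr, smul_mul_assoc, one_mul, mul_one]
    module
  have aI := anti I.1 α (by
    rw [hr]; simp only [mul_add, add_mul, smul_mul_assoc, mul_smul_comm, ii, ij, ji, ik, ki]; module)
  have aJ := anti J.1 β (by
    rw [hr]; simp only [mul_add, add_mul, smul_mul_assoc, mul_smul_comm, jj, ij, ji, jk, kj]; module)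
  have aK := anti K.1 γ (by
    rw [hr]; simp only [mul_add, add_mul, smul_mul_assoc, mul_smul_comm, kk, ik, ki, jk, kj]; module)
  have two : (2 : F) ∈ Λ := by exact_mod_cast natCast_mem Λ 2
  have hM : W.map π = ⊤ := co.2 _ (lt_of_le_of_ne (fun h hh => by
    obtain ⟨g, rfl⟩ := surj h
    refine ⟨g, gen g fun v hv => ?_, rfl⟩
    obtain ⟨w, rfl | rfl | rfl, h | h⟩ := conj g v hh hv <;> rw [h] <;> simpa) fun h => by
      obtain ⟨w, hw, h3⟩ := conj ⟨r, hd⟩ I (h.ge ⟨_, gen _ (by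
        rintro _ (rfl | rfl | rfl)
        · exact aI ▸ sub_mem (sm (mul_mem two hα) mr) mI
        · exact aJ ▸ sub_mem (sm (mul_mem two hβ) mr) mJ
        · exact aK ▸ sub_mem (sm (mul_mem two hγ) mr) mK), rfl⟩) (Or.inl rfl)
      rw [aI] at h3
      have h4 : ∀ (v : Matrix (Fin 2) (Fin 2) F) (b : F), b ≠ 0 → w.1 * v = -(v * w.1) →
          ((2 * α) • r - I.1) * v + v * ((2 * α) • r - I.1) ≠ (-4 * α * b) • (1 : Matrix _ _ F) := by
        intro v b hb h4 h5
        have h6 : (-4 * α * b) • (1 : Matrix (Fin 2) (Fin 2) F) = 0 := by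
          rcases h3 with h3 | h3 <;> rw [← h5, h3] <;> simp [h4]
        have h7 := (ent h6).1
        simp [α0, hb, show (4 : F) = 2 * 2 by norm_num, h2] at h7
      have h5 := h4 J.1 β β0
      have h6 := h4 K.1 γ γ0
      rw [hr] at h5 h6
      simp only [mul_add, add_mul, sub_mul, mul_sub, smul_mul_assoc, mul_smul_comm, jj, kk, ij, ji, ik, ki,
        jk, kj] at h5 h6
      rcases hw with rfl | rfl | rfl
      · exact h5 (by rw [ij, ji, neg_neg]) (by module)
      · exact h6 (by rw [jk, kj, neg_neg]) (by module)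
      · exact h5 (by rw [jk, kj]) (by module))
  have hW : ∀ g, g ∈ W := fun g => by
    rw [← comap_map_eq_self (f := π) (H := W) fun k hk A hA => by
      have h3 : k.1 * A = A * k.1 := by
        rcases ker k 1 (hk.trans (map_one π).symm) with h | h <;> simp [h]
      rwa [h3, mul_assoc, ← Matrix.SpecialLinearGroup.coe_mul, mul_inv_cancel,
        Matrix.SpecialLinearGroup.coe_one, mul_one], hM]
    exact mem_top _
  have key : ∀ v : SL(2, F), v = I ∨ v = J → ∀ t, (t * v.1 1 0) ^ 2 ∈ Λ := fun v hv t => by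
    have h3 : ∀ A ∈ R, ∃ l ∈ Λ, A * v.1 + v.1 * A = l • (1 : Matrix _ _ F) := fun A hA => by
      induction hA using Submodule.span_induction with
      | mem A hA =>
        rcases hv with rfl | rfl <;> rcases hA with rfl | rfl | rfl <;>
          simp only [ii, jj, ij, ji, ik, ki, jk, kj]
        exacts [⟨-2, neg_mem two, by module⟩, ⟨0, zero_mem _, by module⟩, ⟨0, zero_mem _, by module⟩,
          ⟨0, zero_mem _, by module⟩, ⟨-2, neg_mem two, by module⟩, ⟨0, zero_mem _, by module⟩]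
      | zero => exact ⟨0, zero_mem _, by simp⟩
      | add A B _ _ a b =>
        obtain ⟨l, hl, a⟩ := a
        obtain ⟨m, hm, b⟩ := b
        exact ⟨l + m, add_mem hl hm, by rw [add_smul, ← a, ← b]; noncomm_ring⟩
      | smul a A _ h =>
        obtain ⟨l, hl, h⟩ := h
        exact ⟨a * l, mul_mem a.2 hl, by
          rw [mul_smul, ← h, Matrix.mul_smul, Matrix.smul_mul, smul_add]; rfl⟩
    obtain ⟨l, hl, h4⟩ := h3 _ (hW ⟨!![1, t; 0, 1], by simp⟩ v.1 (by rcases hv with rfl | rfl <;> assumption))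
    erw [Matrix.SpecialLinearGroup.coe_inv] at h4
    obtain ⟨a1, -, -, a2⟩ := ent h4
    have h5 : v.1 * v.1 = -1 ∧ v.1 0 0 + v.1 1 1 = 0 := by rcases hv with rfl | rfl <;> constructor <;> assumption
    obtain ⟨a3, -, -, a4⟩ := ent h5.1
    simp [Matrix.adjugate_fin_two, Matrix.mul_apply,
      Fin.sum_univ_two, Matrix.vecMul, dotProduct] at a1 a2 a3 a4
    rw [show (t * v.1 1 0) ^ 2 = -l - 2 from mul_left_cancel₀ h2 (by
      linear_combination -a1 - a2 + 2 * a3 + 2 * a4)]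
    exact sub_mem (neg_mem hl) two
  obtain ⟨c, c0, hc⟩ : ∃ c : F, c ≠ 0 ∧ ∀ t, (t * c) ^ 2 ∈ Λ := by
    by_cases hI : I.1 1 0 = 0
    · refine ⟨_, fun hJ => ?_, key J (Or.inr rfl)⟩
      have a1 := (ent ii).1
      have a2 := (ent jj).1
      have a3 := (ent (ji.trans (congrArg Neg.neg ij.symm))).1
      simp [Matrix.mul_apply, Fin.sum_univ_two, hI, hJ] at a1 a2 a3
      exact h2 (by linear_combination (I.1 0 0 * J.1 0 0) * a3 - 2 * J.1 0 0 ^ 2 * a1 + 2 * a2)
    · exact ⟨_, hI, key I (Or.inl rfl)⟩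
  have := sub_mem (sub_mem (hc ((x / 2 + 1) / c)) (hc (x / 2 / c))) (one_mem Λ)
  convert this using 1
  field_simp
  ring

end Cfsg.Agent.Wong
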