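import Cfsg.Agent.CIT.Dih
import Cfsg.Agent.Block.BSArith

/-!
# Group theoretic tools
-/

set_option autoImplicit false
set_option linter.unusedSectionVars false

namespace Cfsg.Agent.Wong

open Subgroup Cfsg.Agent.Local MulAction
open scoped Pointwise

variable {G : Type*} [Group G] [Finite G]

/-- Thompson's transfer lemma, with the information that the involution survives. -/
theorem transfer' {S D : Subgroup G} (hS : Odd S.index) (h2 : D.relIndex S = 2) {u : G}
    (hu : u * u = 1) (h1 : ∀ g, g⁻¹ * u * g ∉ D) : ∃ M : Subgroup G, M.index = 2 ∧ u ∉ M := by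
  classical
  have hmul := fun a b => mul_mem_iff_of_index_two (H := D.subgroupOf S) h2 (a := a) (b := b)
  let φ : S →* ℤˣ :=
    { toFun := fun x => if x ∈ D.subgroupOf S then 1 else -1
      map_one' := by simp
      map_mul' := fun a b => by
        by_cases ha : a ∈ D.subgroupOf S <;> by_cases hb : b ∈ D.subgroupOf S <;>
          simp [hmul, ha, hb] }
  have := Fintype.ofFinite (Quotient (orbitRel (zpowers u) (G ⧸ S)))
  have key : MonoidHom.transfer φ u = -1 := by
    rw [MonoidHom.transfer_eq_prod_quotient_orbitRel_zpowers_quot, ← hS.neg_one_pow,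
      index_eq_sum_minimalPeriod S u, ← Finset.prod_pow_eq_pow_sum]
    refine Finset.prod_congr rfl fun q _ => ?_
    have h4 : Function.minimalPeriod (u • ·) q.out ∣ 2 := by
      rw [← pow_smul_eq_iff_minimalPeriod_dvd, sq, hu, one_smul]
    suffices H : ∀ n (g : G), n ∣ 2 → ∀ h5 : g⁻¹ * u ^ n * g ∈ S, φ ⟨_, h5⟩ = (-1) ^ n from
      H _ _ h4 _
    intro n g h4 h5
    rcases (Nat.dvd_prime Nat.prime_two).mp h4 with rfl | rfl
    · exact if_neg (by simpa [mem_subgroupOf] using h1 _)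
    · refine (if_pos (show g⁻¹ * u ^ 2 * g ∈ D from ?_)).trans (by simp)
      rw [sq, hu]
      simp
  refine ⟨(MonoidHom.transfer φ).ker, ?_, by rw [MonoidHom.mem_ker, key]; decide⟩
  have h1 : (MonoidHom.transfer φ).range = ⊤ := by
    rw [eq_top_iff]
    intro v _
    rcases Int.units_eq_one_or v with rfl | rfl
    · exact one_mem _
    · exact ⟨u, key⟩
  rw [index_ker, h1, card_top, Nat.card_eq_fintype_card, Fintype.card_units_int]

theorem commute_of_outer {M : Subgroup G} {u s b t : G} (huN : u ∈ normalizer (M : Set G))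
    (huM : u ∉ M) (huu : u * u = 1) (hC : ∀ x ∈ M, Commute x u → x = 1 ∨ x = s)
    (hb : b ∈ normalizer (M : Set G)) (hbu : b * u * b⁻¹ = u * s) (hbs : Commute b s)
    (ht : t ∈ M) (htt : t * t = 1) : Commute t s := by
  have key : ∀ m : ℕ, (t * u) ^ (2 * m) ∈ M := fun m => by
    rw [pow_mul]
    refine pow_mem ?_ m
    have := mul_mem ht (conj_mem_of_mem_normalizer huN ht)
    rwa [inv_eq_of_mul_eq_one_right huu, ← mul_assoc, ← mul_assoc, mul_assoc _ t, ← sq] at this
  have key' : ∀ m : ℕ, (t * u) ^ (2 * m + 1) * u ∈ M := fun m => by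
    rw [pow_succ, mul_assoc, mul_assoc, huu, mul_one]
    exact mul_mem (key m) ht
  have h0 : ∀ x ∈ M, Commute x u → Commute x s := fun x hx hc => by
    rcases hC x hx hc with rfl | rfl
    · exact Commute.one_left s
    · exact Commute.refl _
  obtain ⟨m, h1, -, h3, h4⟩ := CIT.exists_central_of_even htt huu (by
    by_contra h
    obtain ⟨m, hm⟩ := Nat.not_even_iff_odd.mp h
    have := key' m
    rw [← hm, pow_orderOf_eq_one, one_mul] at this
    exact huM this)
  rcases Nat.even_or_odd' m with ⟨k, rfl | rfl⟩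
  · rcases hC _ (key k) h4 with e | e
    · exact absurd e h1
    · exact e ▸ Commute.symm h3
  · rcases hC _ (key' k) (Commute.mul_left h4 (Commute.refl u)) with e | e
    · rw [eq_inv_of_mul_eq_one_left e, inv_eq_of_mul_eq_one_right huu] at h3
      exact h0 t ht (Commute.symm h3)
    · have h5 : (t * u) ^ (2 * k + 1) = b * u * b⁻¹ := by
        rw [hbu, ← e, h4, ← mul_assoc, huu, one_mul]
      rw [h5] at h3
      have h6 := h0 _ (inv_conj_mem_of_mem_normalizer hb ht) (show b⁻¹ * t * b * u = u * (b⁻¹ * t * b) by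
        calc _ = b⁻¹ * (t * (b * u * b⁻¹)) * b := by group
          _ = _ := by rw [← h3]; group)
      have h7 : t = b * (b⁻¹ * t * b) * b⁻¹ := by group
      rw [h7]
      exact (hbs.mul_left h6).mul_left hbs.inv_left

theorem norm_zpowers {b c : G} (hb : b * c * b⁻¹ ∈ zpowers c) : zpowers b ≤ normalizer (zpowers c : Set G) :=
  zpowers_le.mpr (mem_normalizer_of_conj_mem (by
    rintro _ ⟨i, rfl⟩
    beta_reduce
    rw [← conj_zpow]
    exact zpow_mem hb _))

theorem mem_sup2 {K : Subgroup G} {b : G} (hb : b ∈ normalizer (K : Set G)) (hbb : b * b ∈ K) {x : G}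
    (hx : x ∈ K ⊔ zpowers b) : x ∈ K ∨ x * b⁻¹ ∈ K := by
  obtain ⟨y, hy, w, hw, rfl⟩ := (mem_sup_of_right_le_normalizer (zpowers_le.mpr hb)).mp hx
  obtain ⟨i, rfl⟩ := mem_powers_iff_mem_zpowers.mpr hw
  beta_reduce
  rcases Nat.even_or_odd' i with ⟨k, rfl | rfl⟩
  · left; rw [pow_mul, sq]; exact mul_mem hy (pow_mem hbb k)
  · right; rw [pow_succ, pow_mul, sq, ← mul_assoc, mul_inv_cancel_right]; exact mul_mem hy (pow_mem hbb k)

theorem relIndex_sup2 {K : Subgroup G} {b : G} (hb : b ∈ normalizer (K : Set G)) (hbb : b * b ∈ K)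
    (hbK : b ∉ K) : K.relIndex (K ⊔ zpowers b) = 2 := by
  refine relIndex_eq_two_iff.mpr ⟨b⁻¹, inv_mem (mem_sup_right (mem_zpowers b)), fun x hx => ?_⟩
  have h : x * b⁻¹ ∈ K → x ∈ K → False := fun h1 h2 =>
    hbK (inv_mem_iff.mp ((mul_mem_cancel_left h2).mp h1))
  rcases mem_sup2 hb hbb hx with h1 | h1
  · exact Or.inr ⟨h1, fun h2 => h h2 h1⟩
  · exact Or.inl ⟨h1, h h1⟩

theorem card_sup2 {K : Subgroup G} {b : G} (hb : b ∈ normalizer (K : Set G)) (hbb : b * b ∈ K)
    (hbK : b ∉ K) : Nat.card ↥(K ⊔ zpowers b) = Nat.card K * 2 := by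
  rw [← card_mul_relIndex (le_sup_left : K ≤ K ⊔ zpowers b), relIndex_sup2 hb hbb hbK]

theorem mem_sup2' {b c : G} (hb : b * c * b⁻¹ ∈ zpowers c) (hbb : b * b ∈ zpowers c) {x : G}
    (hx : x ∈ zpowers c ⊔ zpowers b) : ∃ j : ℕ, x = c ^ j ∨ x = c ^ j * b := by
  rcases mem_sup2 (zpowers_le.mp (norm_zpowers hb)) hbb hx with h | h <;>
    obtain ⟨j, e⟩ := mem_powers_iff_mem_zpowers.mpr h
  · exact ⟨j, Or.inl e.symm⟩
  · exact ⟨j, Or.inr (eq_mul_of_mul_inv_eq e.symm)⟩

theorem inverts_of_fpf {K : Subgroup G} {u : G} (hu : u ∈ normalizer (K : Set G)) (huu : u * u = 1)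
    (hf : ∀ a ∈ K, a * u = u * a → a = 1) {k : G} (hk : k ∈ K) : u * k * u⁻¹ = k⁻¹ := by
  obtain ⟨b, -, e⟩ := CIT.exists_conj_of_fpf hu hf hk
  have h1 := CIT.conj_sq (g := b) huu
  rw [e] at h1
  rw [inv_eq_of_mul_eq_one_right huu, eq_comm, inv_eq_iff_mul_eq_one, ← h1]
  group

theorem card_eq_two_mul {X : Subgroup G} {z : G} (hz : orderOf z = 2)
    (hS : IsSylowIn 2 (zpowers z) X) (h : HasNPC 2 X) : Nat.card X = Nat.card h.compl * 2 := by
  conv_lhs => rw [← h.sup_compl hS, sup_comm]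
  rw [card_sup_of_disjoint (hS.le.trans h.le_normalizer) (disjoint_def.mpr fun h1 h2 =>
    eq_one_of_mem_isPGroup_of_coprime hS.isPGroup h2 (h.mem_compl.mp h1).2), Nat.card_zpowers, hz]

theorem eq_or_top_of_index_three {T X : Subgroup G} (h : T.index = 3) (hle : T ≤ X) : X = T ∨ X = ⊤ := by
  have h1 := relIndex_mul_index hle
  rw [h] at h1
  rcases (Nat.dvd_prime Nat.prime_three).mp (Dvd.intro_left _ h1) with e | e
  · exact Or.inr (index_eq_one.mp e)
  · rw [e] at h1
    exact Or.inl (le_antisymm (relIndex_eq_one.mp (by omega)) hle)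

end Cfsg.Agent.Wong
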