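import Cfsg.Agent.Wong.SD

/-!
# `2`-groups with a self-centralising four-group
-/

set_option autoImplicit false
set_option linter.unusedSectionVars false

namespace Cfsg.Agent.Wong

open Subgroup Cfsg.Agent.Local
open scoped Pointwise

variable {G : Type*} [Group G] [Finite G]

theorem suzuki_d8 {S : Subgroup G} {u z : G} (hu : u ∈ S) (uu : u * u = 1) (zz : z * z = 1) (z1 : z ≠ 1)
    (hzc : ∀ x ∈ S, Commute x z) (hC : ∀ x ∈ S, Commute x u → x = 1 ∨ x = u ∨ x = z ∨ x = z * u)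
    (hn : ∃ x ∈ S, ¬ Commute x u) (hD : ∀ x ∈ S, x * u * x⁻¹ = u ∨ x * u * x⁻¹ = z * u) :
    ∃ a, orderOf a = 2 ^ 2 ∧ z = a ^ 2 ∧ u ∉ zpowers a ∧ S = zpowers a ⊔ zpowers u ∧
      u * a * u⁻¹ = a⁻¹ := by
  have ui : u⁻¹ = u := inv_eq_of_mul_eq_one_right uu
  obtain ⟨g, hg, hgu⟩ := hn
  have h1 := (hD g hg).resolve_left fun e => hgu (mul_inv_eq_iff_eq_mul.mp e)
  have h2 : ∀ x ∈ S, x * u * x⁻¹ = z * u → ∀ y ∈ S, y * u * y⁻¹ = z * u → Commute (x * y) u := by
    intro x hx e y _ e'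
    refine mul_inv_eq_iff_eq_mul.mp ?_
    calc _ = x * (y * u * y⁻¹) * x⁻¹ := by group
      _ = x * z * x⁻¹ * (x * u * x⁻¹) := by rw [e']; group
      _ = _ := by rw [(hzc x hx).eq, e, mul_inv_cancel_right, ← mul_assoc, zz, one_mul]
  obtain ⟨a, ha, h3, h4⟩ : ∃ a ∈ S, a * a = z ∧ a * u * a⁻¹ = z * u := by
    have h5 : ¬ Commute (g * g) u ∨ _ := Or.inr (hC _ (mul_mem hg hg) (h2 g hg h1 g hg h1))
    rcases hC _ (mul_mem hg hg) (h2 g hg h1 g hg h1) with e | e | e | e
    · refine ⟨g * u, mul_mem hg hu, ?_, by rw [← h1]; group⟩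
      rw [show g * u * (g * u) = g * u * g⁻¹ * (g * g) * u by group, h1, e, mul_one, mul_assoc, uu,
        mul_one]
    · exact absurd (e ▸ (Commute.refl g).mul_right (Commute.refl g)) hgu
    · exact ⟨g, hg, e, h1⟩
    · refine absurd ?_ hgu
      have h6 : Commute g (z * u) := e ▸ (Commute.refl g).mul_right (Commute.refl g)
      simpa using (hzc g hg).inv_right.mul_right h6
  have h5 : u * a * u⁻¹ = a⁻¹ := by
    rw [ui, eq_inv_iff_mul_eq_one, show u * a * u * a = u * (a * u * a⁻¹) * (a * a) by group, h4, h3,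
      ← mul_assoc, (hzc u hu).eq, mul_assoc z, uu, mul_one, zz]
  have h6 : u ∉ zpowers a := by
    rintro ⟨i, rfl⟩
    beta_reduce at h4
    rw [(Commute.self_zpow a i).eq, mul_inv_cancel_right, eq_comm, mul_eq_right] at h4
    exact z1 h4
  have : Fact (Nat.Prime 2) := ⟨Nat.prime_two⟩
  refine ⟨a, orderOf_eq_prime_pow (by rwa [pow_one, sq, h3]) (by
    rw [show 2 ^ (1 + 1) = 2 * 2 by rfl, pow_mul, sq a, h3, sq, zz]), by rw [sq, h3], h6,
    le_antisymm (fun x hx => ?_) (sup_le (zpowers_le.mpr ha) (zpowers_le.mpr hu)), h5⟩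
  have h7 : ∀ y ∈ S, Commute y u → y ∈ zpowers a ⊔ zpowers u := fun y hy hc => by
    have hz : z ∈ zpowers a ⊔ zpowers u := h3 ▸ mem_sup_left (mul_mem (mem_zpowers a) (mem_zpowers a))
    rcases hC y hy hc with rfl | rfl | rfl | rfl
    · exact one_mem _
    · exact mem_sup_right (mem_zpowers _)
    · exact hz
    · exact mul_mem hz (mem_sup_right (mem_zpowers _))
  rcases hD x hx with e | e
  · exact h7 x hx (mul_inv_eq_iff_eq_mul.mp e)
  · exact (mul_mem_cancel_left (mem_sup_left (mem_zpowers a))).mp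
      (h7 _ (mul_mem ha hx) (h2 a ha h4 x hx e))

theorem suzuki {S : Subgroup G} (hS : IsPGroup 2 S) {u z : G} (hu : u ∈ S) (hz : z ∈ S)
    (uu : u * u = 1) (zz : z * z = 1) (z1 : z ≠ 1) (u1 : u ≠ 1) (uz : u ≠ z)
    (hzc : ∀ x ∈ S, Commute x z) (hC : ∀ x ∈ S, Commute x u → x = 1 ∨ x = u ∨ x = z ∨ x = z * u)
    (hn : ∃ x ∈ S, ¬ Commute x u) :
    ∃ n a, orderOf a = 2 ^ (n + 2) ∧ z = a ^ 2 ^ (n + 1) ∧ u ∉ zpowers a ∧ S = zpowers a ⊔ zpowers u ∧
      (u * a * u⁻¹ = a⁻¹ ∨ 1 ≤ n ∧ u * a * u⁻¹ = a ^ (2 ^ (n + 1) - 1)) := by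
  have : Fact (Nat.Prime 2) := ⟨Nat.prime_two⟩
  have ui : u⁻¹ = u := inv_eq_of_mul_eq_one_right uu
  obtain ⟨g, hg, hgu⟩ := hn
  by_cases hr : LinP.HasNormalRank2 2 S
  · obtain ⟨z', c, h1, h2, h3, h4, h5⟩ := hr
    have h6 : ∀ x ∈ S, Commute x z' := fun x hx => congrArg Subtype.val (mem_center_iff.mp h1 ⟨x, hx⟩)
    have h7 : (z' : G) = z := by
      rcases hC _ z'.2 (h6 u hu).symm with e | e | e | e
      · exact absurd (Subtype.ext e) (ne_one_of_orderOf_eq_prime Nat.prime_two h2)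
      · exact absurd (e ▸ h6 g hg) hgu
      · exact e
      · refine absurd ?_ hgu
        have h8 : Commute g (z * u) := e ▸ h6 g hg
        simpa using (hzc g hg).inv_right.mul_right h8
    have h8 : ∀ x ∈ S, x * c * x⁻¹ = c ∨ x * c * x⁻¹ = z * c := fun x hx => by
      obtain ⟨i, hi⟩ := h5 ⟨x, hx⟩
      have h9 : x * c * x⁻¹ * (c : G)⁻¹ ∈ zpowers z := ⟨i, h7 ▸ congrArg Subtype.val hi⟩
      exact (mem_zpowers_two zz h9).imp mul_inv_eq_one.mp eq_mul_of_mul_inv_eq
    have cc : (c : G) * c = 1 := by rw [← sq]; exact congrArg Subtype.val h3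
    have c1 : (c : G) ≠ 1 := fun e => h4 ((Subtype.ext e : c = 1) ▸ one_mem _)
    have cz : (c : G) ≠ z := fun e => h4 ((Subtype.ext (e.trans h7.symm) : c = z') ▸ mem_zpowers _)
    obtain ⟨a, h⟩ := suzuki_d8 hu uu zz z1 hzc hC ⟨g, hg, hgu⟩ (fun x hx => by
      by_cases hcu : Commute (c : G) u
      · rcases hC _ c.2 hcu with e | e | e | e
        · exact absurd e c1
        · exact e ▸ h8 x hx
        · exact absurd e cz
        · have h9 := h8 x hx
          rw [e, show x * (z * u) * x⁻¹ = x * z * x⁻¹ * (x * u * x⁻¹) by group, (hzc x hx).eq,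
            mul_inv_cancel_right, mul_right_inj, mul_right_inj] at h9
          exact h9
      have h9 := (h8 u hu).resolve_left fun e => hcu (mul_inv_eq_iff_eq_mul.mp e).symm
      have h10 : c * u * (c : G)⁻¹ = z * u := by
        rw [inv_eq_of_mul_eq_one_right cc, show c * u * c = c * (u * c * u⁻¹) * u by group, h9,
          ← mul_assoc, (hzc _ c.2).eq, mul_assoc z, cc, mul_one]
      let D : Subgroup G :=
        { carrier := {x | x ∈ S ∧ (x * u * x⁻¹ = u ∨ x * u * x⁻¹ = z * u)}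
          one_mem' := ⟨one_mem _, by simp⟩
          mul_mem' := by
            rintro x y ⟨hx, hx'⟩ ⟨hy, hy'⟩
            refine ⟨mul_mem hx hy, ?_⟩
            rw [show x * y * u * (x * y)⁻¹ = x * (y * u * y⁻¹) * x⁻¹ by group]
            rcases hy' with e | e <;> rw [e]
            · exact hx'
            · rw [show x * (z * u) * x⁻¹ = x * z * x⁻¹ * (x * u * x⁻¹) by group, (hzc x hx).eq,
                mul_inv_cancel_right]
              rcases hx' with e | e <;> rw [e]
              · exact Or.inr rfl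
              · left; rw [← mul_assoc, zz, one_mul]
          inv_mem' := by
            rintro x ⟨hx, hx'⟩
            refine ⟨inv_mem hx, hx'.imp (fun e => ?_) fun e => ?_⟩
            · conv_lhs => rw [← e]
              group
            · have e' : u = z * (x * u * x⁻¹) := by rw [e, ← mul_assoc, zz, one_mul]
              conv_lhs => rw [e', ← mul_assoc, (hzc _ (inv_mem hx)).eq]
              group }
      by_contra hcon
      obtain ⟨y, hy, hyn, hyD⟩ := CIT.exists_mem_normalizer_two hS (show D < S from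
        lt_of_le_of_ne (fun _ h => h.1) fun e => hcon (e.ge hx).2)
      have h11 := conj_mem_of_mem_normalizer hyn (show u ∈ D from ⟨hu, by simp⟩)
      have h12 := CIT.conj_sq (g := y) uu
      refine hyD ⟨hy, ?_⟩
      have h13 : ∀ w, y * u * y⁻¹ = w → (∀ x ∈ S, Commute x w) → False := fun w e hw =>
        hgu (by
          have := hw _ (mul_mem (mul_mem hy hg) (inv_mem hy))
          rw [← e] at this
          simpa [mul_assoc] using M11.commute_conj y⁻¹ this)
      rcases h11.2 with e | e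
      · rcases hC _ h11.1 (mul_inv_eq_iff_eq_mul.mp e) with e | e | e | e
        · exact absurd e (CIT.conj_ne_one u1)
        · exact Or.inl e
        · exact (h13 _ e hzc).elim
        · exact Or.inr e
      · exfalso
        have h14 : Commute ((c : G) * (y * u * y⁻¹)) u := by
          refine mul_inv_eq_iff_eq_mul.mp ?_
          calc _ = c * (y * u * y⁻¹ * u * (y * u * y⁻¹)⁻¹) * (c : G)⁻¹ := by group
            _ = c * z * (c : G)⁻¹ * (c * u * (c : G)⁻¹) := by rw [e]; group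
            _ = _ := by rw [(hzc _ c.2).eq, h10, mul_inv_cancel_right, ← mul_assoc, zz, one_mul]
        have h15 : ∀ w : G, (w = c ∨ w = z * c) → y * u * y⁻¹ ≠ w := fun w hw e => by
          have h16 : u = y⁻¹ * w * y⁻¹⁻¹ := by rw [← e]; group
          have h17 := h8 _ (inv_mem hy)
          refine hcu ?_
          rcases hw with rfl | rfl
          · rcases h17 with e' | e' <;> rw [h16, e']
            exact (hzc _ c.2).mul_right (Commute.refl _)
          · rw [h16, show y⁻¹ * (z * c) * y⁻¹⁻¹ = y⁻¹ * z * y⁻¹⁻¹ * (y⁻¹ * c * y⁻¹⁻¹) by group,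
              (hzc _ (inv_mem hy)).eq, mul_inv_cancel_right]
            rcases h17 with e' | e' <;> rw [e']
            · exact (hzc _ c.2).mul_right (Commute.refl _)
            · exact (hzc _ c.2).mul_right ((hzc _ c.2).mul_right (Commute.refl _))
        have ci : (c : G)⁻¹ = c := inv_eq_of_mul_eq_one_right cc
        have h18 : (c : G) * u * (c * u) = z := by
          rw [ci] at h10
          rw [← mul_assoc, h10, mul_assoc, uu, mul_one]
        rcases hC _ (mul_mem c.2 h11.1) h14 with e | e | e | e <;>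
          have e' := eq_inv_mul_of_mul_eq e <;> rw [ci] at e'
        · exact h15 _ (Or.inl rfl) (by simpa using e')
        · rw [e', h18] at h12
          exact z1 h12
        · exact h15 _ (Or.inr rfl) (e'.trans (hzc _ c.2).eq)
        · rw [e', ← mul_assoc (c : G) z, (hzc _ c.2).eq, mul_assoc z, ← sq,
            Commute.mul_pow (hzc _ (mul_mem c.2 hu)).symm, sq, sq, zz, h18, one_mul] at h12
          exact z1 h12)
    exact ⟨0, a, h.1, h.2.1, h.2.2.1, h.2.2.2.1, Or.inl h.2.2.2.2⟩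
  rcases LinP.cyclic_or_maxClass hS hr with hc | ⟨-, n, a, b, h1, h2, h3, h4⟩
  · exact absurd (congrArg Subtype.val (hc.isMulCommutative.1.comm ⟨g, hg⟩ ⟨u, hu⟩)) hgu
  have ord : orderOf (a : G) = 2 ^ (n + 2) := (orderOf_coe a).trans h1
  have h5 : ∀ x : S, x ∉ zpowers a → x * a * x⁻¹ = b * a * b⁻¹ := fun x hx => by
    obtain ⟨i, hi⟩ := (mul_mem_iff_of_index_two h3 (a := b⁻¹) (b := x)).mpr
      (iff_of_false (by simpa using h2) hx)
    rw [eq_mul_of_inv_mul_eq hi.symm]
    group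
  have h6 : b * a * b⁻¹ ≠ a := fun e => by
    have h7 : 2 ^ (n + 1) < 2 ^ (n + 2) := Nat.pow_lt_pow_right one_lt_two (by omega)
    have h8 : 2 ≤ 2 ^ (n + 1) := by rw [pow_succ]; have := Nat.one_le_two_pow (n := n); omega
    rcases h4 with ⟨h4, -⟩ | ⟨h9, -, h4⟩
    · rw [e, eq_inv_iff_mul_eq_one, ← sq] at h4
      exact pow_ne_one_of_lt_orderOf two_ne_zero (by omega) h4
    · have h10 : 4 ≤ 2 ^ (n + 1) := by
        obtain ⟨m, rfl⟩ := Nat.exists_eq_add_of_le' h9
        rw [pow_succ, pow_succ]; have := Nat.one_le_two_pow (n := m); omega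
      have := pow_injOn_Iio_orderOf (x := a) (show 1 ∈ Set.Iio _ by rw [h1, Set.mem_Iio]; omega)
        (show 2 ^ (n + 1) - 1 ∈ Set.Iio _ by rw [h1, Set.mem_Iio]; omega)
        (by simp only [pow_one]; rw [← h4, e])
      omega
  have mz : ∀ x : S, x ∈ zpowers a ↔ (x : G) ∈ zpowers (a : G) := fun x =>
    ⟨fun ⟨i, hi⟩ => ⟨i, congrArg Subtype.val hi⟩, fun ⟨i, hi⟩ => ⟨i, Subtype.ext hi⟩⟩
  have h7 : z ∈ zpowers (a : G) := by
    by_contra h7
    refine h6 ((h5 ⟨z, hz⟩ fun e => h7 ((mz _).mp e)).symm.trans (Subtype.ext ?_))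
    change z * a * z⁻¹ = a
    rw [← (hzc _ a.2).eq, mul_inv_cancel_right]
  have h8 := CIT.eq_of_sq_eq_one ord h7 z1 zz
  have h9 : u ∉ zpowers (a : G) := fun e => uz ((CIT.eq_of_sq_eq_one ord e u1 uu).trans h8.symm)
  have h10 := congrArg Subtype.val (h5 ⟨u, hu⟩ fun e => h9 ((mz _).mp e))
  refine ⟨n, a, ord, h8, h9, le_antisymm (fun x hx => ?_) (sup_le (zpowers_le.mpr a.2)
    (zpowers_le.mpr hu)), ?_⟩
  · by_cases h11 : x ∈ zpowers (a : G)
    · exact mem_sup_left h11
    · have h12 := (mz _).mp ((mul_mem_iff_of_index_two h3 (a := ⟨x, hx⟩) (b := ⟨u, hu⟩)).mpr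
        (iff_of_false (fun e => h11 ((mz _).mp e)) fun e => h9 ((mz _).mp e)))
      exact (mul_mem_cancel_right (mem_sup_right (mem_zpowers u))).mp (mem_sup_left h12)
  · rcases h4 with ⟨h4, -⟩ | ⟨h11, -, h4⟩
    · exact Or.inl (h10.trans (congrArg Subtype.val h4))
    · exact Or.inr ⟨h11, h10.trans (congrArg Subtype.val h4)⟩

end Cfsg.Agent.Wong
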