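import Cfsg.Agent.Wong.S4

/-!
# Primitive groups with a suborbit of length three: the point stabiliser `S₄ × C₂`
-/

set_option autoImplicit false
set_option linter.unusedSectionVars false
set_option synthInstance.maxSize 2000
set_option synthInstance.maxHeartbeats 200000

namespace Cfsg.Agent.Wong

open Subgroup Cfsg.Agent.Local MulAction Equiv
open scoped Pointwise

variable {G : Type*} [Group G] [Finite G]

/-- The holomorph of the cyclic group of order eight. -/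
def Hol : Type := ZMod 8 × Bool × Bool

instance : DecidableEq Hol := inferInstanceAs (DecidableEq (ZMod 8 × Bool × Bool))

instance : Fintype Hol := inferInstanceAs (Fintype (ZMod 8 × Bool × Bool))

instance : Mul Hol := ⟨fun x y => (x.1 + (bif x.2.1 then -1 else 1) * ((bif x.2.2 then 5 else 1) * y.1),
  xor x.2.1 y.2.1, xor x.2.2 y.2.2)⟩

instance : One Hol := ⟨(0, false, false)⟩

instance : Inv Hol := ⟨fun x => (-((bif x.2.1 then -1 else 1) * ((bif x.2.2 then 5 else 1) * x.1)), x.2)⟩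

instance : Group Hol := Group.ofLeftAxioms (by decide +kernel) (by decide +kernel) (by decide +kernel)

/-- Elements of `Hol`. -/
def hol (i : ZMod 8) (j k : Bool) : Hol := (i, j, k)

theorem exists_hol {c u y : G} (c8 : c ^ 8 = 1) (uu : u * u = 1) (yy : y * y = 1) (uc : u * c = c⁻¹ * u)
    (yc : y * c = c ^ 5 * y) (uy : u * y = y * u) : ∃ ψ : Hol →* G, ψ (hol 1 false false) = c ∧
      ψ (hol 0 true false) = u ∧ ψ (hol 0 false true) = y := by
  have add : ∀ i j : ZMod 8, c ^ (i + j).val = c ^ i.val * c ^ j.val := fun i j => by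
    rw [ZMod.val_add, ← pow_eq_pow_mod _ c8, pow_add]
  have mul : ∀ i j : ZMod 8, c ^ (i * j).val = (c ^ i.val) ^ j.val := fun i j => by
    rw [ZMod.val_mul, ← pow_eq_pow_mod _ c8, pow_mul]
  have h1 : ∀ (b : Bool) (j : ZMod 8), (bif b then u else 1) * c ^ j.val =
      c ^ ((bif b then -1 else 1) * j).val * (bif b then u else 1) := fun b j => by
    cases b
    · simp
    · rw [mul]
      refine SemiconjBy.pow_right (show u * c = c ^ 7 * u from ?_) _
      rw [uc, inv_eq_of_mul_eq_one_left (pow_succ c 7 ▸ c8)]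
  have h2 : ∀ (b : Bool) (j : ZMod 8), (bif b then y else 1) * c ^ j.val =
      c ^ ((bif b then 5 else 1) * j).val * (bif b then y else 1) := fun b j => by
    cases b
    · simp
    · rw [mul]
      exact SemiconjBy.pow_right yc _
  refine ⟨MonoidHom.mk' (fun x => c ^ x.1.val * (bif x.2.1 then u else 1) * (bif x.2.2 then y else 1)) ?_,
    show c ^ 1 * 1 * 1 = c by simp, show c ^ 0 * u * 1 = u by simp, show c ^ 0 * 1 * y = y by simp⟩
  rintro ⟨i, j, k⟩ ⟨i', j', k'⟩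
  change c ^ (i + _ * (_ * i')).val * (bif xor j j' then u else 1) * (bif xor k k' then y else 1) = _
  rw [add]
  simp only [mul_assoc]
  rw [← mul_assoc (bif k then y else 1), h2, mul_assoc, ← mul_assoc (bif j then u else 1), h1]
  simp only [mul_assoc]
  congr 2
  have h3 : y * (u * y) = u := by rw [uy, ← mul_assoc, yy, one_mul]
  cases j <;> cases j' <;> cases k <;> cases k' <;> simp [uu, yy, ← uy, h3, ← mul_assoc u u]

/-- The group `S₄ × C₂`. -/
abbrev A2 : Type := Perm (Fin 4) × Multiplicative (ZMod 2)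

/-- A double transposition. -/
def z2 : A2 := (z4, 1)

/-- Another double transposition. -/
def u2 : A2 := (u4, 1)

/-- A three-cycle. -/
def r2 : A2 := (r4, 1)

/-- The central involution. -/
def y2 : A2 := (1, Multiplicative.ofAdd 1)

set_option maxHeartbeats 800000 in
theorem Prim.s42 {H : Subgroup G} (d : Prim H) (e : H ≃* A2) :
    ∃ N : Subgroup G, N.Normal ∧ N.index = 2 ∧ centralizer (N : Set G) = ⊥ ∧
      Nonempty (N ≃* Matrix.ProjectiveSpecialLinearGroup (Fin 3) (ZMod 3)) := by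
  obtain ⟨φ, inj, mH⟩ := exists_hom e
  have cH : Nat.card H = 48 := by rw [Nat.card_congr e.toEquiv]; simp [Fintype.card_perm]; rfl
  obtain ⟨hP, t, ht, tH⟩ := d.exists_t mH inj (z := z2) (by decide +kernel) (by decide +kernel)
  have mP : ∀ p, φ p ∈ H ⊓ centralizer {φ z2} ↔ p * z2 = z2 * p := fun p => by
    rw [mem_inf, mem_centralizer_singleton_iff, ← map_mul, ← map_mul, inj.eq_iff, mH]; simp
  have z1 : φ z2 ≠ 1 := map_one φ ▸ inj.ne (by decide)
  have u1 : φ u2 ≠ 1 := map_one φ ▸ inj.ne (by decide)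
  have y1 : φ y2 ≠ 1 := map_one φ ▸ inj.ne (by decide)
  have sq : ∀ {a}, a * a = 1 ↔ φ a * φ a = 1 := by
    intro a; rw [← map_mul, ← map_one φ, inj.eq_iff]
  have cm : ∀ {a b}, a * b = b * a ↔ Commute (φ a) (φ b) := by
    intro a b; rw [commute_iff_eq, ← map_mul, ← map_mul, inj.eq_iff]
  have zz := sq.mp (by decide : z2 * z2 = 1)
  have uu := sq.mp (by decide : u2 * u2 = 1)
  have yy := sq.mp (by decide : y2 * y2 = 1)
  have cu := cm.mp (by decide : u2 * z2 = z2 * u2)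
  have cy : ∀ g, g ∈ H ↔ Commute g (φ y2) := fun g => by
    have h1 : ∀ g ∈ H, Commute g (φ y2) := fun g hg => by
      obtain ⟨a, rfl⟩ := (mH g).mp hg
      exact cm.mp ((by decide +kernel : ∀ a, a * y2 = y2 * a) a)
    exact ⟨h1 g, fun h => d.norm_zp y1 (fun g hg => by simp [(h1 g hg).eq]) (by simp [h.eq])⟩
  have hy : ∀ a, Commute (φ a) (φ y2) := fun a => (cy _).mp ((mH _).mpr ⟨a, rfl⟩)
  have hV := d.four z1 zz uu cu fun g hg v hv => by
    obtain ⟨g, rfl⟩ := (mH g).mp hg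
    rcases hv with rfl | rfl <;> simp only [← map_inv, ← map_mul, inj.eq_iff] <;> clear hg <;>
      revert g <;> decide +kernel
  have hE : normalizer ((zpowers (φ z2) ⊔ zpowers (φ u2) ⊔ zpowers (φ y2) : Subgroup G) : Set G) = H := by
    have h1 : H ≤ normalizer ((zpowers (φ z2) ⊔ zpowers (φ u2) ⊔ zpowers (φ y2) : Subgroup G) : Set G) :=
      le_normalizer_sup hV.ge fun g hg => norm_zpowers (by simp [((cy g).mp hg).eq]) (mem_zpowers g)
    have := (hP.to_le (show zpowers (φ z2) ⊔ zpowers (φ u2) ⊔ zpowers (φ y2) ≤ _ from sup_le (sup_le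
      (zpowers_le.mpr ((mP _).mpr rfl)) (zpowers_le.mpr ((mP _).mpr (by decide))))
      (zpowers_le.mpr ((mP _).mpr (by decide))))).isNilpotent
    exact d.F1 (fun e => y1 (mem_bot.mp (e ▸ mem_sup_right (mem_zpowers _)))) inferInstance h1
  have facts : ∀ t ∈ normalizer ((H ⊓ centralizer {φ z2} : Subgroup G) : Set G), t ∉ H →
      Commute t (φ z2) ∧ t * φ y2 * t⁻¹ = φ y2 * φ z2 ∧ ∃ v, v * z2 = z2 * v ∧ v * v = 1 ∧
        v * u2 ≠ u2 * v ∧ t * φ u2 * t⁻¹ = φ v := by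
    intro t ht tH
    have tP : ∀ p, p * z2 = z2 * p → ∃ q, q * z2 = z2 * q ∧ t * φ p * t⁻¹ = φ q := fun p hp => by
      have h1 := conj_mem_of_mem_normalizer ht ((mP p).mpr hp)
      obtain ⟨q, hq⟩ := (mH _).mp h1.1
      exact ⟨q, (mP q).mp (hq ▸ h1), hq.symm⟩
    have tz : Commute t (φ z2) := by
      obtain ⟨q, h1, h2⟩ := tP (u2 * (swap 0 1, 1)) (by decide)
      have h3 : t * φ z2 * t⁻¹ = φ (q * q) := by
        rw [map_mul, ← h2, conj_mul, ← map_mul]; congr 3; decide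
      rcases (by decide +kernel : ∀ q, q * z2 = z2 * q → q * q = 1 ∨ q * q = z2) q h1 with e | e <;>
        rw [e] at h3
      · exact absurd (h3.trans (map_one φ)) (CIT.conj_ne_one z1)
      · exact mul_inv_eq_iff_eq_mul.mp h3
    have ty : t * φ y2 * t⁻¹ = φ y2 * φ z2 := by
      obtain ⟨q, -, h2⟩ := tP y2 (by decide)
      have h3 : ∀ p, p * z2 = z2 * p → p * q = q * p := fun p hp => cm.mpr (by
        simpa [← h2, mul_assoc] using M11.commute_conj t ((cy _).mp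
          (inv_conj_mem_of_mem_normalizer ht ((mP p).mpr hp)).1))
      rcases (by decide +kernel : ∀ q, u2 * q = q * u2 → (swap 0 1, 1) * q = q * (swap 0 1, 1) →
        q = 1 ∨ q = z2 ∨ q = y2 ∨ q = y2 * z2) q (h3 _ (by decide)) (h3 _ (by decide)) with
        rfl | rfl | rfl | rfl
      · exact absurd (h2.trans (map_one φ)) (CIT.conj_ne_one y1)
      · rw [mul_inv_eq_iff_eq_mul, ← tz.eq, mul_right_inj] at h2
        exact absurd (inj h2) (by decide)
      · exact absurd ((cy t).mpr (mul_inv_eq_iff_eq_mul.mp h2)) tH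
      · rw [h2, map_mul]
    obtain ⟨v, vz, tu⟩ := tP u2 (by decide)
    refine ⟨tz, ty, v, vz, sq.mpr (tu ▸ CIT.conj_sq uu), fun e => tH (hE ▸ ?_), tu⟩
    have m1 : φ z2 ∈ zpowers (φ z2) ⊔ zpowers (φ u2) ⊔ zpowers (φ y2) :=
      mem_sup_left (mem_sup_left (mem_zpowers _))
    have m2 : φ u2 ∈ zpowers (φ z2) ⊔ zpowers (φ u2) ⊔ zpowers (φ y2) :=
      mem_sup_left (mem_sup_right (mem_zpowers _))
    have m3 : φ y2 ∈ zpowers (φ z2) ⊔ zpowers (φ u2) ⊔ zpowers (φ y2) := mem_sup_right (mem_zpowers _)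
    have h1 : zpowers (φ z2) ⊔ zpowers (φ u2) ⊔ zpowers (φ y2) ≤ (zpowers (φ z2) ⊔ zpowers (φ u2) ⊔
        zpowers (φ y2)).comap (MulAut.conj t).toMonoidHom := by
      refine sup_le (sup_le (zpowers_le.mpr ?_) (zpowers_le.mpr ?_)) (zpowers_le.mpr ?_) <;>
        rw [mem_comap, MulEquiv.coe_toMonoidHom, MulAut.conj_apply]
      · simpa [tz.eq] using m1
      · obtain ⟨i, j, k, rfl⟩ := (by decide +kernel : ∀ v, v * z2 = z2 * v → v * u2 = u2 * v →
          ∃ i j k : Fin 2, v = z2 ^ i.val * u2 ^ j.val * y2 ^ k.val) v vz e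
        simp only [tu, map_mul, map_pow]
        exact mul_mem (mul_mem (pow_mem m1 _) (pow_mem m2 _)) (pow_mem m3 _)
      · exact ty ▸ mul_mem m3 m1
    exact mem_normalizer_of_conj_mem fun x hx => h1 hx
  have rep : ∀ v q, v * z2 = z2 * v → v * v = 1 → v * u2 ≠ u2 * v → q * z2 = z2 * q →
      ∃ i j k l : Fin 2, q = z2 ^ i.val * y2 ^ j.val * u2 ^ k.val * v ^ l.val := by decide +kernel
  obtain ⟨τ, hτ, τH, ττ⟩ : ∃ τ ∈ normalizer ((H ⊓ centralizer {φ z2} : Subgroup G) : Set G), τ ∉ H ∧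
      τ * τ = 1 := by
    obtain ⟨tz, ty, v, vz, vv, vu, tu⟩ := facts t ht tH
    obtain ⟨q, hq⟩ := (mH (t * t)).mp ((cy _).mpr (mul_inv_eq_iff_eq_mul.mp (by
      calc _ = t * (t * φ y2 * t⁻¹) * t⁻¹ := by group
        _ = t * φ y2 * t⁻¹ * (t * φ z2 * t⁻¹) := by nth_rewrite 1 [ty]; group
        _ = _ := by rw [ty, tz.eq, mul_inv_cancel_right, mul_assoc, zz, mul_one])))
    obtain ⟨i, j, k, l, h1⟩ := rep v q vz vv vu (cm.mpr (hq ▸ tz.mul_left tz))
    have h2 : q = z2 ^ i.val * (y2 * z2) ^ j.val * v ^ k.val * (q * u2 * q⁻¹) ^ l.val := inj (by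
      calc _ = t * φ q * t⁻¹ := by rw [hq]; group
        _ = (t * φ z2 * t⁻¹) ^ i.val * (t * φ y2 * t⁻¹) ^ j.val * (t * φ u2 * t⁻¹) ^ k.val *
            (t * (t * φ u2 * t⁻¹) * t⁻¹) ^ l.val := by
          conv_lhs => rw [h1]
          nth_rewrite 2 [tu]
          simp only [map_mul, map_pow, conj_pow]; group
        _ = _ := by
          simp only [map_mul, map_pow, map_inv, hq, ty, tz.eq, mul_inv_cancel_right, ← tu]; group)
    have h3 : ∀ p, p * z2 = z2 * p → t * φ p * t⁻¹ * φ q * φ p = 1 →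
        ∃ τ ∈ normalizer ((H ⊓ centralizer {φ z2} : Subgroup G) : Set G), τ ∉ H ∧ τ * τ = 1 := fun p hp h =>
      ⟨t * φ p, mul_mem ht (le_normalizer ((mP p).mpr hp)), fun e => tH ((mul_mem_cancel_right
        ((mH _).mpr ⟨p, rfl⟩)).mp e), by rw [← h, hq]; group⟩
    rcases (by decide +kernel : ∀ v (i j k l : Fin 2) q, v * z2 = z2 * v → v * v = 1 → v * u2 ≠ u2 * v →
      q = z2 ^ i.val * y2 ^ j.val * u2 ^ k.val * v ^ l.val →
      q = z2 ^ i.val * (y2 * z2) ^ j.val * v ^ k.val * (q * u2 * q⁻¹) ^ l.val →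
      q = 1 ∨ y2 * z2 * q * y2 = 1 ∨ v * q * u2 = 1 ∨ v * (y2 * z2) * q * (u2 * y2) = 1)
      v i j k l q vz vv vu h1 h2 with e | e | e | e
    · exact h3 1 (by simp) (by simp [e])
    · exact h3 y2 (by decide) (by rw [ty, ← map_one φ, ← e]; simp)
    · exact h3 u2 (by decide) (by rw [tu, ← map_one φ, ← e]; simp)
    · exact h3 (u2 * y2) (by decide) (by
        conv_lhs => rw [map_mul, ← conj_mul, tu, ty]
        rw [← map_one φ, ← e]; simp)
  clear ht tH t
  obtain ⟨tz, ty, v, vz, vv, vu, tu⟩ := facts τ hτ τH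
  have τi := inv_eq_of_mul_eq_one_right ττ
  have c4 : (φ u2 * τ) ^ 4 = φ z2 := by
    rw [show (φ u2 * τ) ^ 4 = φ u2 * (τ * φ u2 * τ⁻¹) * (τ * τ) * (φ u2 * (τ * φ u2 * τ⁻¹) * (τ * τ)) by
      simp only [pow_succ]; group, tu, ττ, mul_one, ← map_mul, ← map_mul, inj.eq_iff]
    exact (by decide +kernel : ∀ v, v * z2 = z2 * v → v * v = 1 → v * u2 ≠ u2 * v →
      u2 * v * (u2 * v) = z2) v vz vv vu
  obtain ⟨ψ, ψc, ψu, ψy⟩ := exists_hol (c := φ u2 * τ) (by rw [show 8 = 4 + 4 by rfl, pow_add, c4, zz]) uu yy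
    (by rw [mul_inv_rev, τi, inv_eq_of_mul_eq_one_right uu, ← mul_assoc, mul_assoc τ, uu]; simp)
    (by
      rw [pow_succ', c4, ← mul_assoc, ← (hy u2).eq, mul_assoc, mul_assoc, mul_assoc, mul_right_inj,
        (hy z2).eq, ← ty, τi, ← mul_assoc, ← mul_assoc, ττ, one_mul]) (hy u2).eq
  have ψz : ψ (hol 4 false false) = φ z2 := by rw [← c4, ← ψc, ← map_pow]; rfl
  have ψτ : ψ (hol (-1) true false) = τ := by
    rw [show hol (-1) true false = hol 0 true false * hol 1 false false by decide, map_mul, ψu, ψc,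
      ← mul_assoc, uu, one_mul]
  have ψi : Function.Injective ψ := (injective_iff_map_eq_one ψ).mpr fun x hx => by_contra fun e => by
    obtain ⟨g, k, h⟩ := (by decide +kernel : ∀ x : Hol, x ≠ 1 → ∃ g, ∃ k : Fin 5,
      x ^ k.val = hol 4 false false ∨ (x * g * x⁻¹ * g⁻¹) ^ k.val = hol 4 false false) x e
    rcases h with h | h <;> exact z1 (by simp [← ψz, ← h, hx])
  have yz : ∀ g, g * φ y2 * g⁻¹ ≠ φ z2 := fun g hg => by
    have h1 := card_dvd_of_le (show MulAut.conj g⁻¹ • ψ.range ≤ H from fun w hw => (cy w).mpr (by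
      obtain ⟨x, hx⟩ := mem_conj_smul_iff.mp hw
      have h1 : Commute (ψ x) (g * φ y2 * g⁻¹) := hg ▸ ψz ▸ Commute.map
        ((by decide +kernel : ∀ x : Hol, x * hol 4 false false = hol 4 false false * x) x) ψ
      simpa [hx, mul_assoc] using M11.commute_conj g⁻¹ h1))
    rw [card_conj_smul, cH, ← Nat.card_congr (MonoidHom.ofInjective ψi).toEquiv,
      Nat.card_eq_fintype_card] at h1
    exact absurd h1 (by decide +kernel)
  have cT : Nat.card ψ.range = 2 ^ 5 := by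
    rw [← Nat.card_congr (MonoidHom.ofInjective ψi).toEquiv, Nat.card_eq_fintype_card]; rfl
  have hT : IsSylowIn 2 ψ.range ⊤ := isSylowIn_of_maximal le_top (IsPGroup.of_card cT) fun S hS h1 _ => by
    by_contra h2
    obtain ⟨g, -, h3, h4⟩ := CIT.exists_mem_normalizer_two hS (lt_of_le_of_ne h1 (Ne.symm h2))
    have mr : ∀ {x g}, ψ x = g → g ∈ ψ.range := fun h => ⟨_, h⟩
    have key : ∀ g ∈ normalizer (ψ.range : Set G), g ∈ H → g ∈ ψ.range := fun g hg gH => by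
      obtain ⟨x, hx⟩ := conj_mem_of_mem_normalizer hg ⟨hol 2 false false, rfl⟩
      have h5 : ψ (x * x) = g * φ z2 * g⁻¹ := by rw [map_mul, hx, conj_mul, ← map_mul, ← ψz]; rfl
      obtain ⟨q, rfl⟩ := (mH g).mp gH
      rcases (by decide +kernel : ∀ x : Hol, x * x * (x * x) = 1 → x * x = 1 ∨ x * x = hol 4 false false) x
        (ψi (by rw [map_mul, h5, CIT.conj_sq zz, map_one])) with e | e <;> rw [e] at h5
      · exact absurd (h5.symm.trans (map_one ψ)) (CIT.conj_ne_one z1)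
      obtain ⟨i, j, k, l, rfl⟩ := rep v q vz vv vu (cm.mpr (mul_inv_eq_iff_eq_mul.mp (h5.symm.trans ψz)))
      simp only [map_mul, map_pow]
      exact mul_mem (mul_mem (mul_mem (pow_mem (mr ψz) _) (pow_mem (mr ψy) _)) (pow_mem (mr ψu) _))
        (pow_mem (tu ▸ mul_mem (mul_mem (mr ψτ) (mr ψu)) (inv_mem (mr ψτ))) _)
    obtain ⟨x, hx⟩ := conj_mem_of_mem_normalizer h3 ⟨_, ψy⟩
    obtain ⟨w, hw⟩ := inv_conj_mem_of_mem_normalizer h3 ⟨hol 1 false false, rfl⟩
    have h5 := M11.commute_conj g (Commute.map ((by decide +kernel : ∀ w : Hol,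
      w * w * hol 0 false true = hol 0 false true * (w * w)) w) ψ)
    rw [ψy, ← hx, map_mul, hw, show ∀ c, g * (g⁻¹ * c * g * (g⁻¹ * c * g)) * g⁻¹ = c * c from
      fun c => by group, ← map_mul] at h5
    rcases (by decide +kernel : ∀ x : Hol, x * x = 1 → hol 1 false false * hol 1 false false * x =
      x * (hol 1 false false * hol 1 false false) → x = 1 ∨ x = hol 4 false false ∨ x = hol 0 false true ∨
        x = hol 0 false true * hol 4 false false) x (ψi (by rw [map_mul, hx, CIT.conj_sq yy, map_one]))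
      (ψi (by rw [map_mul _ _ x, map_mul _ x, h5.eq])) with rfl | rfl | rfl | rfl
    · exact CIT.conj_ne_one y1 (hx.symm.trans (map_one ψ))
    · exact yz g (hx.symm.trans ψz)
    · exact h4 (key g h3 ((cy g).mpr (mul_inv_eq_iff_eq_mul.mp (hx.symm.trans ψy))))
    · rw [map_mul, ψy, ψz, ← ty] at hx
      refine h4 ((mul_mem_cancel_left (inv_mem (mr ψτ))).mp (key _ (mul_mem (inv_mem (le_normalizer
        (mr ψτ))) h3) ((cy _).mpr (mul_inv_eq_iff_eq_mul.mp ?_))))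
      calc _ = τ⁻¹ * (g * φ y2 * g⁻¹) * τ := by group
        _ = _ := by rw [← hx]; group
  have ρz : φ r2 * φ z2 * (φ r2)⁻¹ = φ u2 := by rw [← map_inv, ← map_mul, ← map_mul]; congr 1; decide
  let M0 : Subgroup Hol :=
    { carrier := {x | x.1.val % 2 = 1 ↔ x.2.2}
      one_mem' := by decide
      mul_mem' := by simp only [Set.mem_ofPred_eq]; decide +kernel
      inv_mem' := by simp only [Set.mem_ofPred_eq]; decide +kernel }
  obtain ⟨N, hN, yN⟩ := transfer' (odd_index hT) (D := M0.map ψ) (by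
    rw [MonoidHom.range_eq_map, relIndex_map_map_of_injective _ _ ψi, relIndex_top_right,
      index_eq_two_iff]
    exact ⟨hol 1 false false, by change ∀ b : Hol, (_ ↔ _) ∧ ¬ (_ ↔ _) ∨ (_ ↔ _) ∧ ¬ (_ ↔ _); decide +kernel⟩) yy (by
      rintro g ⟨x, hx, h⟩
      rcases (by decide +kernel : ∀ x : Hol, (x.1.val % 2 = 1 ↔ x.2.2) → x * x = 1 → x = 1 ∨
        x = hol 4 false false ∨ ∃ k, k * x * k⁻¹ = hol 0 true false) x hx (ψi (by
          rw [map_mul, h, map_one]; simpa using CIT.conj_sq (g := g⁻¹) yy)) with rfl | rfl | ⟨k, e⟩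
      · exact CIT.inv_conj_ne_one y1 (h.symm.trans (map_one ψ))
      · exact yz g⁻¹ (by rw [inv_inv, ← h, ψz])
      · refine yz ((φ r2)⁻¹ * ψ k * g⁻¹) ?_
        calc _ = (φ r2)⁻¹ * (ψ k * (g⁻¹ * φ y2 * g) * (ψ k)⁻¹) * φ r2 := by group
          _ = _ := by rw [← h, ← map_inv ψ, ← map_mul, ← map_mul, e, ψu, ← ρz]; group)
  have hn := normal_of_index_eq_two hN
  have zN : φ z2 ∈ N := c4 ▸ (pow_mul (φ u2 * τ) 2 2).symm ▸ sq_mem_of_index_two hN _
  have uN : φ u2 ∈ N := ρz ▸ hn.conj_mem _ zN _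
  have ρN : φ r2 ∈ N := mem_of_odd hN (by
    rw [orderOf_injective φ inj, orderOf_eq_prime (p := 3) (by decide) (by decide)]; decide)
  obtain ⟨σ, σN, σz, σu, σr⟩ : ∃ σ ∈ N, Commute σ (φ z2) ∧ σ * φ u2 * σ⁻¹ = φ v ∧
      σ * φ r2 * σ⁻¹ = τ * φ r2 * τ⁻¹ := by
    by_cases h : τ ∈ N
    · exact ⟨τ, h, tz, tu, rfl⟩
    · have h1 : ∀ a, τ * φ y2 * φ a * (τ * φ y2)⁻¹ = τ * φ a * τ⁻¹ := fun a => by
        rw [mul_assoc τ, ← (hy a).eq]; group
      exact ⟨τ * φ y2, (mul_mem_iff_of_index_two hN).mpr (iff_of_false h yN), tz.mul_left (hy _).symm,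
        (h1 _).trans tu, h1 _⟩
  have gen : ∀ Y : Subgroup G, φ u2 ∈ Y → φ r2 ∈ Y → φ v ∈ Y → τ * φ r2 * τ⁻¹ ∈ Y → N ≤ Y := by
    obtain ⟨Y, hY⟩ : ∃ Y, Y = closure {φ u2, φ r2, φ v, τ * φ r2 * τ⁻¹} := ⟨_, rfl⟩
    have le : ∀ Z : Subgroup G, φ u2 ∈ Z → φ r2 ∈ Z → φ v ∈ Z → τ * φ r2 * τ⁻¹ ∈ Z → Y ≤ Z :=
      fun Z a b c d => hY ▸ (closure_le _).mpr (by rintro _ (rfl | rfl | rfl | rfl) <;> assumption)
    have m1 : φ u2 ∈ Y := hY ▸ subset_closure (by simp)
    have m2 : φ r2 ∈ Y := hY ▸ subset_closure (by simp)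
    have m3 : φ v ∈ Y := hY ▸ subset_closure (by simp)
    have m4 : τ * φ r2 * τ⁻¹ ∈ Y := hY ▸ subset_closure (by simp)
    have m5 : φ z2 ∈ Y := by simpa [← ρz, mul_assoc] using mul_mem (mul_mem (inv_mem m2) m1) m2
    have nm : ∀ g, g * φ u2 * g⁻¹ ∈ Y → g * φ r2 * g⁻¹ ∈ Y → g * φ v * g⁻¹ ∈ Y →
        g * (τ * φ r2 * τ⁻¹) * g⁻¹ ∈ Y → g ∈ normalizer (Y : Set G) := fun g a b c d =>
      mem_normalizer_of_conj_mem fun x hx => le (Y.comap (MulAut.conj g).toMonoidHom) a b c d hx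
    have h1 : φ y2 ∈ normalizer (Y : Set G) := nm _ (by simpa [← (hy _).eq]) (by simpa [← (hy _).eq])
      (by simpa [← (hy _).eq]) (by
        convert mul_mem (mul_mem (inv_mem m5) m4) m5 using 1
        calc _ = (φ z2)⁻¹ * (φ y2 * φ z2 * (τ * φ r2 * τ⁻¹) * (φ y2 * φ z2)⁻¹) * φ z2 := by
              rw [← (hy z2).eq]; group
          _ = (φ z2)⁻¹ * (τ * (φ y2 * φ r2 * (φ y2)⁻¹) * τ⁻¹) * φ z2 := by rw [← ty]; group
          _ = _ := by rw [← (hy r2).eq, mul_inv_cancel_right])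
    have h2 : H ≤ Y ⊔ zpowers (φ y2) := fun g hg => by
      obtain ⟨g, rfl⟩ := (mH g).mp hg
      obtain ⟨k, h⟩ := (by decide +kernel : ∀ g, ∃ k : Fin 3, r2 ^ k.val * g * z2 = z2 * (r2 ^ k.val * g)) g
      obtain ⟨i, j, k', l, h⟩ := rep v _ vz vv vu h
      rw [eq_inv_mul_of_mul_eq h]
      simp only [map_mul, map_pow, map_inv]
      exact mul_mem (inv_mem (pow_mem (mem_sup_left m2) _)) (mul_mem (mul_mem (mul_mem
        (pow_mem (mem_sup_left m5) _) (pow_mem (mem_sup_right (mem_zpowers _)) _))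
        (pow_mem (mem_sup_left m1) _)) (pow_mem (mem_sup_left m3) _))
    have h3 := d.top_of (h2.trans (sup_le le_normalizer (zpowers_le.mpr h1))) (nm τ (tu ▸ m3) m4
      (by simpa [← tu, τi, ← mul_assoc, ττ, mul_assoc _ τ τ]) (by
        simpa [τi, ← mul_assoc, ττ, mul_assoc _ τ τ])) τH
    have h4 : Y ⊔ zpowers (φ y2) = ⊤ := d.co.2 _ (lt_of_le_of_ne h2 fun e => u1 (mem_bot.mp
      (d.core Y (normalizer_eq_top_iff.mp h3) (le_sup_left.trans e.ge) ▸ m1)))
    refine fun Z a b c d g hg => le Z a b c d ((mem_sup2 h1 (yy ▸ one_mem _)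
      (h4.ge (mem_top g))).resolve_right fun e => yN ?_)
    exact inv_mem_iff.mp ((mul_mem_cancel_left hg).mp (le N uN ρN (tu ▸ hn.conj_mem _ uN _)
      (hn.conj_mem _ ρN _) e))
  have key : ∀ K : Subgroup N, K.Normal → ⟨_, zN⟩ ∈ K → K = ⊤ := fun K hK hz => by
    have h1 : ∀ g ∈ N, ∀ x ∈ K.map N.subtype, g * x * g⁻¹ ∈ K.map N.subtype := by
      rintro g hg _ ⟨x, hx, rfl⟩
      exact ⟨_, hK.conj_mem x hx ⟨g, hg⟩, rfl⟩
    have h2 : φ z2 ∈ K.map N.subtype := ⟨_, hz, rfl⟩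
    have h3 := ρz ▸ h1 _ ρN _ h2
    have h4 := σu ▸ h1 _ σN _ h3
    have h5 : φ r2 ∈ K.map N.subtype := by
      obtain ⟨i, j, k, h⟩ := (by decide +kernel : ∀ v, v * z2 = z2 * v → v * v = 1 → v * u2 ≠ u2 * v →
        ∃ (i j : Fin 2) (k : Fin 3), r2 = z2 ^ i.val * u2 ^ j.val * (r2 * v * r2⁻¹ * v) ^ k.val) v vz vv vu
      conv => enter [2]; rw [h]
      simp only [map_mul, map_pow, map_inv]
      exact mul_mem (mul_mem (pow_mem h2 _) (pow_mem h3 _)) (pow_mem (mul_mem (h1 _ ρN _ h4) h4) _)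
    refine eq_top_iff.mpr fun x _ => ?_
    obtain ⟨x', hx, e⟩ := gen _ h3 h5 h4 (σr ▸ h1 _ σN _ h5) x.2
    exact Subtype.ext e ▸ hx
  have cN := N.card_mul_index
  have syl : ¬ 2 ^ 5 ∣ Nat.card N := fun e => not_dvd_of_sylow hT cT (by
    rw [← cN, hN, pow_succ]; exact Nat.mul_dvd_mul_right e 2)
  have cl : ∀ a : Hol, (ha : ψ a ∈ N) → a ^ 4 = hol 4 false false →
      (∃ k : Fin 8, hol 0 true false * a * (hol 0 true false)⁻¹ = a ^ k.val) →
      (∀ k : Fin 8, a ^ k.val ≠ hol 0 true false) → orderOf (⟨_, ha⟩ : N) = 2 ^ 3 ∧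
        (⟨_, ha⟩ : N) ^ 2 ^ 2 = ⟨_, zN⟩ ∧ ∀ t : N, t ≠ 1 → t * t = 1 → IsConj ⟨_, zN⟩ t := by
    rintro a ha h1 ⟨k, h2⟩ h3
    have h4 : (⟨_, ha⟩ : N) ^ 2 ^ 2 = ⟨_, zN⟩ := Subtype.ext ((map_pow ψ a 4).symm.trans (h1 ▸ ψz))
    have h5 : orderOf (⟨_, ha⟩ : N) = 2 ^ (2 + 1) := orderOf_eq_prime_pow
      (by rw [h4]; exact fun e => z1 (congrArg Subtype.val e))
      (by rw [pow_succ, pow_mul, h4, _root_.sq]; exact Subtype.ext zz)
    refine ⟨h5, h4, fun t => h4 ▸ one_class (fun M hM => ?_) h5 (u := ⟨_, uN⟩) ⟨k.val, Subtype.ext ?_⟩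
      (Subtype.ext uu) (fun e => ?_) syl⟩
    · have := key M (normal_of_index_eq_two hM) (by
        rw [← h4, pow_succ 2, pow_mul]; exact sq_mem_of_index_two hM _)
      simp [this] at hM
    · simp [← ψu, ← map_pow, ← h2]
    · classical
      rw [mem_zpowers_iff_mem_range_orderOf, h5] at e
      simp only [Finset.mem_image, Finset.mem_range] at e
      obtain ⟨j, hj, e⟩ := e
      exact h3 ⟨j, hj⟩ (ψi (by rw [map_pow, ψu]; exact congrArg Subtype.val e))
  by_cases τN : τ ∈ N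
  · exfalso
    obtain ⟨g, hg⟩ := isConj_iff.mp ((cl (hol 1 false false) (ψc ▸ mul_mem uN τN) (by decide) (by decide)
      (by decide)).2.2 ⟨τ, τN⟩ (fun e => τH ((show τ = 1 from congrArg Subtype.val e) ▸ one_mem H)) (Subtype.ext ττ)).symm
    have h1 : (g : G) * τ * (g : G)⁻¹ = φ z2 := congrArg Subtype.val hg
    generalize (g : G) = g at h1
    have h2 : Commute (ψ (hol 2 false true)) τ := ψτ ▸ Commute.map (by unfold Commute SemiconjBy; decide) ψ
    have h3 : ψ (hol 2 false true) * ψ (hol 2 false true) = φ z2 := by rw [← map_mul, ← ψz]; rfl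
    obtain ⟨k, hk, h4⟩ := (hT.of_le (M := centralizer {φ z2}) (by
      rintro _ ⟨x, rfl⟩
      exact mem_centralizer_singleton_iff.mpr (ψz ▸ Commute.map
        ((by decide +kernel : ∀ x : Hol, x * hol 4 false false = hol 4 false false * x) x) ψ))
      le_top).exists_le_conj ((h3 ▸ CIT.two_of_sq zz).of_sq.conj g).isPGroup (zpowers_le.mpr
        (mem_centralizer_singleton_iff.mpr (h1 ▸ M11.commute_conj g h2)))
    obtain ⟨x, hx⟩ := mem_conj_smul_iff.mp (h4 (mem_zpowers _))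
    have h5 : ψ (x * x) = k⁻¹ * g * φ z2 * (k⁻¹ * g)⁻¹ := by rw [map_mul, hx, ← h3]; group
    rcases (by decide +kernel : ∀ x : Hol, x * x * (x * x) = 1 → x * x = 1 ∨ x * x = hol 4 false false) x
      (ψi (by rw [map_mul, h5, CIT.conj_sq zz, map_one])) with e | e <;> rw [e] at h5
    · exact CIT.conj_ne_one z1 (h5.symm.trans (map_one ψ))
    refine τH ((mH τ).mpr ⟨z2, (MulAut.conj (k⁻¹ * g)).injective ?_⟩)
    rw [MulAut.conj_apply, MulAut.conj_apply, ← h5, ψz, show k⁻¹ * g * τ * (k⁻¹ * g)⁻¹ =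
      k⁻¹ * (g * τ * g⁻¹) * k by group, h1, mul_assoc, ← mem_centralizer_singleton_iff.mp hk,
      inv_mul_cancel_left]
  have aN : ψ (hol 1 false true) ∈ N := by
    rw [show hol 1 false true = hol 1 false false * hol 0 false true by decide, map_mul, ψc, ψy, mul_assoc]
    exact mul_mem uN ((mul_mem_iff_of_index_two hN).mpr (iff_of_false τN yN))
  obtain ⟨ord, az, one⟩ := cl _ aN (by decide) (by decide) (by decide)
  have : Nontrivial N := ⟨⟨_, zN⟩, 1, fun e => z1 (congrArg Subtype.val e)⟩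
  have : IsSimpleGroup N := ⟨fun K hK => by
    by_cases h3 : 2 ∣ Nat.card K
    · obtain ⟨s, hs, h4⟩ := exists_mem_orderOf_eq_of_dvd_card Nat.prime_two h3
      obtain ⟨g, hg⟩ := isConj_iff.mp (one s (ne_one_of_orderOf_eq_prime Nat.prime_two h4)
        (by rw [← _root_.sq, ← h4, pow_orderOf_eq_one])).symm
      exact Or.inr (key K hK (hg ▸ hK.conj_mem s hs g))
    · have h4 := d.eq_bot_of_odd (N := (Cfsg.pPrimeCore 2 N).map N.subtype) inferInstance (by
        rw [card_map_of_injective N.subtype_injective]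
        exact (Nat.Prime.coprime_iff_not_dvd Nat.prime_two).mp (coprime_card_pPrimeCore 2).symm)
        (cT ▸ card_subgroup_dvd_card _) (by rw [cH]; decide)
      rw [map_eq_bot_iff_of_injective _ N.subtype_injective] at h4
      exact Or.inl (le_bot_iff.mp (h4 ▸ le_pPrimeCore hK
        ((Nat.Prime.coprime_iff_not_dvd Nat.prime_two).mpr h3).symm))⟩
  have cV : ∀ g, Commute g (φ u2) → Commute g (φ z2) → g ∈ H := fun g h1 h2 =>
    hV ▸ norm_sup2 (by simp [h2.eq, mem_sup_left]) (by simp [h1.eq, mem_sup_right])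
  refine (SD.main (n := 0) (u := ⟨_, uN⟩) ⟨ord, Subtype.ext uu, Subtype.ext ?_, syl, fun g h1 h2 => ?_⟩).elim
    (fun e => ⟨N, hn, hN, d.core _ inferInstance fun g hg => cV g (hg _ uN).symm (hg _ zN).symm, e⟩)
    fun ⟨e⟩ => ?_
  · simp only [coe_mul, InvMemClass.coe_inv, SubmonoidClass.coe_pow, ← ψu, ← map_pow, ← map_inv, ← map_mul]
    congr 1
  · rw [az] at h2 ⊢
    obtain ⟨g, hg⟩ := g
    have h3 : Commute g (φ u2) := congrArg Subtype.val h1
    have h4 : Commute g (φ z2) := congrArg Subtype.val h2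
    obtain ⟨g, rfl⟩ := (mH g).mp (cV g h3 h4)
    simp only [Subtype.ext_iff, coe_mul, coe_one, ← map_mul, ← map_one φ, inj.eq_iff]
    refine ((by decide +kernel : ∀ g, g * u2 = u2 * g → g * z2 = z2 * g → (g = 1 ∨ g = u2 ∨ g = z2 ∨
      g = z2 * u2) ∨ ∃ i j : Fin 2, y2 = g * z2 ^ i.val * u2 ^ j.val) g (cm.mpr h3)
      (cm.mpr h4)).resolve_right fun ⟨i, j, h⟩ => yN ?_
    rw [h]
    simp only [map_mul, map_pow]
    exact mul_mem (mul_mem hg (pow_mem zN _)) (pow_mem uN _)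
  obtain ⟨M, h3, h4, h5⟩ := not_m11 e (z := ⟨_, zN⟩) (u := ⟨_, uN⟩) (g := ⟨σ, σN⟩)
    (fun e => z1 (congrArg Subtype.val e)) (Subtype.ext zz) (Subtype.ext uu) (Subtype.ext cu)
    (Subtype.ext (by
      simp only [coe_mul, InvMemClass.coe_inv, σu, ← map_mul, inj.eq_iff]
      exact (by decide +kernel : ∀ v, v * z2 = z2 * v → v * v = 1 → v * u2 ≠ u2 * v →
        u2 * v = v * u2 * z2) v vz vv vu)) (Subtype.ext σz) rfl
  have h6 : (⟨_, uN⟩ : N) ∈ M := h5 (le_normalizer (mem_sup_right (mem_zpowers _)))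
  have h7 : (⟨_, ρN⟩ : N) ∈ M := h5 (norm_sup2 (by
    convert mem_sup_right (mem_zpowers (⟨_, uN⟩ : N)) using 1
    exact Subtype.ext ρz) (by
    convert mul_mem_sup (mem_zpowers (⟨_, zN⟩ : N)) (mem_zpowers (⟨_, uN⟩ : N)) using 1
    refine Subtype.ext ?_
    simp only [coe_mul, InvMemClass.coe_inv, ← map_inv, ← map_mul]
    congr 1; decide))
  refine absurd (eq_top_iff.mpr fun x _ => ?_) h3
  obtain ⟨x', hx, e⟩ := gen (M.map N.subtype) ⟨_, h6, rfl⟩ ⟨_, h7, rfl⟩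
    ⟨_, mul_mem (mul_mem h4 h6) (inv_mem h4), σu⟩ ⟨_, mul_mem (mul_mem h4 h7) (inv_mem h4), σr⟩ x.2
  exact Subtype.ext e ▸ hx

end Cfsg.Agent.Wong
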