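import Cfsg.Agent.Wong.Grp
import Cfsg.Agent.Wong.Char
import Cfsg.Agent.Wong.Id
import Cfsg.Agent.Local.Quat

/-!
# Simple groups with a semidihedral Sylow subgroup and a self-centralising four-group
-/

set_option autoImplicit false
set_option linter.unusedSectionVars false

namespace Cfsg.Agent.Wong

open Subgroup Cfsg.Agent.Local
open scoped Pointwise

variable {G : Type*} [Group G] [Finite G]

theorem sq_of_closure {s : Set G} (hc : ∀ x ∈ s, ∀ y ∈ s, x * y = y * x) (h2 : ∀ x ∈ s, x * x = 1) :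
    ∀ x ∈ closure s, x * x = 1 := by
  have hc' := isMulCommutative_closure hc
  intro x hx
  induction hx using closure_induction with
  | mem x hx => exact h2 x hx
  | one => simp
  | mul x y hx hy a b =>
    rw [← sq, Commute.mul_pow (congrArg Subtype.val (hc'.1.comm ⟨x, hx⟩ ⟨y, hy⟩)), sq, sq, a, b,
      mul_one]
  | inv x _ a => rw [← mul_inv_rev, a, inv_one]

theorem mem_zpowers_two {z x : G} (hz : z * z = 1) (hx : x ∈ zpowers z) : x = 1 ∨ x = z := by
  obtain ⟨i, rfl⟩ := mem_powers_iff_mem_zpowers.mpr hx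
  beta_reduce
  rcases Nat.even_or_odd' i with ⟨k, rfl | rfl⟩
  · left; rw [pow_mul, sq, hz, one_pow]
  · right; rw [pow_succ, pow_mul, sq, hz, one_pow, one_mul]

theorem s4_inv : ∀ σ : Equiv.Perm (Fin 4), σ * σ = 1 → (∀ τ, τ * τ ≠ σ) →
    ∃ ρ, ρ ≠ 1 ∧ ρ ^ 3 = 1 ∧ σ * ρ * σ⁻¹ = ρ⁻¹ ∧ ∀ τ, τ * ρ * τ⁻¹ = ρ → τ = 1 ∨ τ = ρ ∨ τ = ρ⁻¹ := by
  decide +kernel

/-- Semidihedral Sylow subgroup `⟨a, u⟩` with self-centralising four-group. -/
structure SD (a u : G) (n : ℕ) : Prop where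
  ord : orderOf a = 2 ^ (n + 3)
  uu : u * u = 1
  ua : u * a * u⁻¹ = a ^ (2 ^ (n + 2) - 1)
  syl : ¬ 2 ^ (n + 5) ∣ Nat.card G
  cV : ∀ g, Commute g u → Commute g (a ^ 2 ^ (n + 2)) →
    g = 1 ∨ g = u ∨ g = a ^ 2 ^ (n + 2) ∨ g = a ^ 2 ^ (n + 2) * u

namespace SD

variable {a u : G} {n : ℕ} (h : SD a u n)
include h

theorem z1 : a ^ 2 ^ (n + 2) ≠ 1 := CIT.pow_half_ne_one h.ord

theorem zz : a ^ 2 ^ (n + 2) * a ^ 2 ^ (n + 2) = 1 := CIT.pow_half_sq h.ord

theorem uniq {x : G} (hx : x ∈ zpowers a) (h2 : x * x = 1) : x = 1 ∨ x = a ^ 2 ^ (n + 2) :=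
  (em (x = 1)).imp_right fun h1 => CIT.eq_of_sq_eq_one h.ord hx h1 h2

theorem ui : u⁻¹ = u := inv_eq_of_mul_eq_one_right h.uu

theorem sq (i : ℕ) : a ^ i * u * (a ^ i * u) = (a ^ 2 ^ (n + 2)) ^ i := by
  calc _ = a ^ i * (u * a * u⁻¹) ^ i * (u * u) := by rw [conj_pow]; group
    _ = _ := by
      rw [h.ua, h.uu, mul_one, ← Commute.mul_pow (Commute.self_pow _ _), ← pow_succ',
        Nat.sub_add_cancel Nat.one_le_two_pow]

theorem ev (i : ℕ) : (a ^ 2 ^ (n + 2)) ^ (2 * i) = 1 := by rw [pow_mul, _root_.sq, h.zz, one_pow]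

theorem od (i : ℕ) : (a ^ 2 ^ (n + 2)) ^ (2 * i + 1) = a ^ 2 ^ (n + 2) := by
  rw [pow_succ, h.ev, one_mul]

theorem conj (i : ℕ) : u * a ^ i * u⁻¹ = (a ^ i)⁻¹ * (a ^ 2 ^ (n + 2)) ^ i := by
  rw [← h.sq, h.ui]; group

theorem conj2 (i : ℕ) : u * a ^ (2 * i) * u⁻¹ = (a ^ (2 * i))⁻¹ := by rw [h.conj, h.ev, mul_one]

theorem notMem : u ∉ zpowers a := fun hu => by
  obtain ⟨j, hj⟩ := mem_powers_iff_mem_zpowers.mpr hu
  have h1 := h.sq 1
  rw [pow_one, pow_one, mul_assoc, ← mul_assoc u, show u * a = a * u by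
    rw [← hj]; exact (Commute.pow_self a j).eq, mul_assoc, h.uu, mul_one, ← _root_.sq] at h1
  have h2 : 2 < 2 ^ (n + 2) := by rw [pow_add]; have := Nat.one_le_two_pow (n := n); omega
  have h3 := pow_injOn_Iio_orderOf (by rw [h.ord, pow_succ, Set.mem_Iio]; omega)
    (by rw [h.ord, pow_succ 2 (n + 2), Set.mem_Iio]; omega) h1
  omega

theorem uN : u * a * u⁻¹ ∈ zpowers a := h.ua ▸ pow_mem (mem_zpowers a) _

theorem mem_S {x : G} (hx : x ∈ zpowers a ⊔ zpowers u) : ∃ j : ℕ, x = a ^ j ∨ x = a ^ j * u :=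
  mem_sup2' h.uN (h.uu ▸ one_mem _) hx

theorem card_S : Nat.card ↥(zpowers a ⊔ zpowers u) = 2 ^ (n + 4) := by
  rw [card_sup2 (zpowers_le.mp (norm_zpowers h.uN)) (h.uu ▸ one_mem _) h.notMem, Nat.card_zpowers,
    h.ord, pow_succ 2 (n + 3)]

theorem sylow : IsSylowIn 2 (zpowers a ⊔ zpowers u) ⊤ :=
  ⟨le_top, IsPGroup.of_card h.card_S, fun h1 => h.syl (by
    rw [← (zpowers a ⊔ zpowers u).card_mul_index, h.card_S, pow_succ 2 (n + 4), ← relIndex_top_right]
    exact Nat.mul_dvd_mul_left _ h1)⟩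

theorem uz : Commute u (a ^ 2 ^ (n + 2)) := by
  have h1 := h.conj2 (2 ^ (n + 1))
  rw [← pow_succ', inv_eq_of_mul_eq_one_right h.zz] at h1
  exact mul_inv_eq_iff_eq_mul.mp h1

theorem z_mem : a ^ 2 ^ (n + 2) ∈ zpowers (a ^ 2) := by
  rw [pow_succ' 2, pow_mul]; exact pow_mem (mem_zpowers _) _

theorem half {b : G} (hb : b ∈ zpowers a ⊔ zpowers u) (hba : b ∉ zpowers a) :
    (zpowers (a ^ 2) ⊔ zpowers b).relIndex (zpowers a ⊔ zpowers u) = 2 ∧
      Nat.card ↥(zpowers (a ^ 2) ⊔ zpowers b) = 2 ^ (n + 3) ∧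
      ∀ x ∈ zpowers (a ^ 2) ⊔ zpowers b, ∃ j, x = a ^ (2 * j) ∨ x = a ^ (2 * j) * b := by
  obtain ⟨j, rfl | rfl⟩ := h.mem_S hb
  · exact absurd (pow_mem (mem_zpowers a) j) hba
  have h2 : zpowers (a ^ 2) ≤ zpowers a := zpowers_le.mpr (pow_mem (mem_zpowers a) 2)
  have h3 : a ^ j * u * a ^ 2 * (a ^ j * u)⁻¹ ∈ zpowers (a ^ 2) := by
    rw [show a ^ j * u * a ^ 2 * (a ^ j * u)⁻¹ = a ^ j * (u * a ^ (2 * 1) * u⁻¹) * (a ^ j)⁻¹ by group,
      h.conj2, show a ^ j * (a ^ (2 * 1))⁻¹ * (a ^ j)⁻¹ = (a ^ 2)⁻¹ by group]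
    exact inv_mem (mem_zpowers _)
  have h4 : a ^ j * u * (a ^ j * u) ∈ zpowers (a ^ 2) := h.sq j ▸ pow_mem h.z_mem j
  have h5 := card_sup2 (zpowers_le.mp (norm_zpowers h3)) h4 fun e => hba (h2 e)
  rw [Nat.card_zpowers, orderOf_pow_of_dvd two_ne_zero (h.ord ▸ dvd_pow_self 2 (by omega)), h.ord,
    Nat.div_mul_cancel (dvd_pow_self 2 (by omega))] at h5
  refine ⟨?_, h5, fun x hx => by simpa only [pow_mul] using mem_sup2' h3 h4 hx⟩
  have h6 := card_mul_relIndex (sup_le (h2.trans le_sup_left) (zpowers_le.mpr hb))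
  rw [h5, h.card_S, pow_succ 2 (n + 3)] at h6
  exact Nat.eq_of_mul_eq_mul_left (by positivity) h6

theorem au_mem : a * u ∈ zpowers a ⊔ zpowers u :=
  mul_mem (mem_sup_left (mem_zpowers a)) (mem_sup_right (mem_zpowers u))

theorem au_notMem : a * u ∉ zpowers a := fun e => h.notMem ((mul_mem_cancel_left (mem_zpowers a)).mp e)

theorem au_sq : a * u * (a * u) = a ^ 2 ^ (n + 2) := by simpa using h.sq 1

theorem one (H2 : ∀ M : Subgroup G, M.index ≠ 2) {t : G} (h1 : t ≠ 1) (ht : t * t = 1) :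
    IsConj (a ^ 2 ^ (n + 2)) t := by
  obtain ⟨g, hg⟩ := CIT.thompson_transfer H2 (CIT.odd_index h.sylow) le_sup_left
    (relIndex_sup2 (zpowers_le.mp (norm_zpowers h.uN)) (h.uu ▸ one_mem _) h.notMem) ht
  refine isConj_iff.mpr ⟨g, ?_⟩
  rw [← (h.uniq hg (by simpa using CIT.conj_sq (g := g⁻¹) ht)).resolve_left (CIT.inv_conj_ne_one h1)]
  group

theorem fuse (H2 : ∀ M : Subgroup G, M.index ≠ 2) :
    ∃ g, Commute g (a ^ 2 ^ (n + 2)) ∧ g⁻¹ * (a * u) * g ∈ zpowers a := by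
  obtain ⟨h1, -, h2⟩ := h.half (mem_sup_right (mem_zpowers u)) h.notMem
  by_contra hc
  obtain ⟨M, hM⟩ := CIT.exists_index_two_of_transfer (CIT.odd_index h.sylow) (sup_le
    (zpowers_le.mpr (mem_sup_left (pow_mem (mem_zpowers a) 2))) le_sup_right) h1 (u := a * u) (k := 2)
    (by rw [show 2 ^ 2 = 2 * 2 by rfl, pow_mul, _root_.sq (a * u), h.au_sq, _root_.sq, h.zz])
    (fun g hg => by
      have e3 : g⁻¹ * (a * u) * g * (g⁻¹ * (a * u) * g) = g⁻¹ * a ^ 2 ^ (n + 2) * g := by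
        rw [← h.au_sq]; group
      obtain ⟨j, e | e⟩ := h2 _ hg
      · have h3 : g⁻¹ * (a * u) * g ∈ zpowers a := e ▸ pow_mem (mem_zpowers a) _
        have h4 := (h.uniq (e3 ▸ mul_mem h3 h3) (by simpa using CIT.conj_sq (g := g⁻¹) h.zz)).resolve_left
          (CIT.inv_conj_ne_one h.z1)
        rw [mul_assoc, inv_mul_eq_iff_eq_mul] at h4
        exact hc ⟨g, h4.symm, h3⟩
      · rw [e, h.sq, h.ev] at e3
        exact CIT.inv_conj_ne_one h.z1 e3.symm) (fun g m hg => by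
      have e3 : g⁻¹ * (a * u) ^ (2 * m) * g * (g⁻¹ * (a * u) ^ (2 * m) * g) = 1 := by
        simpa using CIT.conj_sq (g := g⁻¹) (x := (a * u) ^ (2 * m)) (by
          rw [pow_mul, _root_.sq, h.au_sq, ← Commute.mul_pow (Commute.refl _), h.zz, one_pow])
      generalize g⁻¹ * (a * u) ^ (2 * m) * g = x at *
      obtain ⟨j, rfl | rfl⟩ := h.mem_S hg
      · rcases h.uniq (pow_mem (mem_zpowers a) j) e3 with e | e <;> rw [e]
        · exact one_mem _
        · exact mem_sup_left h.z_mem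
      · rcases Nat.even_or_odd' j with ⟨i, rfl | rfl⟩
        · rw [pow_mul]
          exact mul_mem (mem_sup_left (pow_mem (mem_zpowers _) i)) (mem_sup_right (mem_zpowers u))
        · rw [h.sq, h.od] at e3
          exact absurd e3 h.z1)
  exact H2 M hM

theorem normal_q8 (hz : ∀ g, Commute g (a ^ 2 ^ (n + 2))) {g₀ : G}
    (hf : g₀⁻¹ * (a * u) * g₀ ∈ zpowers a) :
    n = 0 ∧ (zpowers (a ^ 2) ⊔ zpowers (a * u)).Normal ∧ (∃ M : Subgroup G, M.index = 2 ∧ u ∉ M ∧ a ^ 2 ∈ M) ∧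
      g₀⁻¹ * (a * u) * g₀ ∈ zpowers (a ^ 2) := by
  obtain ⟨q1, q2, q3⟩ := h.half h.au_mem h.au_notMem
  set z := a ^ 2 ^ (n + 2) with hz'
  have uz1 : u ≠ z := fun e => h.notMem (e ▸ pow_mem (mem_zpowers a) _)
  have u1 : u ≠ 1 := fun e => h.notMem (e ▸ one_mem _)
  obtain ⟨M, hM, huM⟩ := transfer' (CIT.odd_index h.sylow) q1 h.uu (fun g hg => by
    have e3 : g⁻¹ * u * g * (g⁻¹ * u * g) = 1 := by simpa using CIT.conj_sq (g := g⁻¹) h.uu
    obtain ⟨j, e | e⟩ := q3 _ hg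
    · rcases h.uniq (e ▸ pow_mem (mem_zpowers a) _) e3 with e | e
      · exact CIT.inv_conj_ne_one u1 e
      · rw [mul_assoc, inv_mul_eq_iff_eq_mul, (hz g).eq, mul_left_inj] at e
        exact uz1 e
    · rw [e, ← mul_assoc (a ^ _), ← pow_succ, h.sq, h.od] at e3
      exact h.z1 e3)
  have hMn := normal_of_index_eq_two hM
  have h2M : zpowers (a ^ 2) ≤ M := zpowers_le.mpr (sq_mem_of_index_two hM a)
  set i := a ^ 2 ^ (n + 1) with hi'
  have ii : i * i = z := by rw [hi', ← pow_add, ← two_mul, ← pow_succ']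
  have hi2 : i ∈ zpowers (a ^ 2) := by rw [hi', pow_succ' 2, pow_mul]; exact pow_mem (mem_zpowers _) _
  have hia : i ∈ zpowers a := pow_mem (mem_zpowers a) _
  have ui : u * i * u⁻¹ = i⁻¹ := by rw [hi', pow_succ']; exact h.conj2 _
  have iu : i * u * i⁻¹ = z * u := by
    rw [← ii, show i * u * i⁻¹ = i * (u * i * u⁻¹)⁻¹ * u by group, ui, inv_inv]
  have hw : g₀⁻¹ * (a * u) * g₀ * i⁻¹ ∈ zpowers z := by
    obtain ⟨j, hj⟩ := mem_powers_iff_mem_zpowers.mpr hf
    have e3 : g₀⁻¹ * (a * u) * g₀ * (g₀⁻¹ * (a * u) * g₀) = z := by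
      calc _ = g₀⁻¹ * (a * u * (a * u)) * g₀ := by group
        _ = _ := by rw [h.au_sq, mul_assoc, ← (hz g₀).eq]; group
    rcases h.uniq (mul_mem hf (inv_mem hia)) (by
      rw [← _root_.sq, Commute.mul_pow (by rw [← hj]; exact (Commute.pow_pow_self a _ _).inv_right),
        _root_.sq, e3, inv_pow, _root_.sq, ii, mul_inv_cancel]) with e | e <;> rw [e]
    · exact one_mem _
    · exact mem_zpowers z
  have hw2 : g₀⁻¹ * (a * u) * g₀ ∈ zpowers (a ^ 2) :=
    (mul_mem_cancel_right (inv_mem hi2)).mp (zpowers_le.mpr h.z_mem hw)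
  have hwM : a * u ∈ M := by simpa [mul_assoc] using hMn.conj_mem _ (h2M hw2) g₀
  have hzM : zpowers z ≤ M := zpowers_le.mpr (h2M h.z_mem)
  have : (zpowers z).Normal := ⟨fun x hx g => by
    rcases mem_zpowers_two h.zz hx with rfl | rfl
    · simp
    · rw [(hz g).eq]; simp⟩
  let π := QuotientGroup.mk' (zpowers z)
  have hπ : ∀ {x y : G}, π x = π y ↔ x⁻¹ * y ∈ zpowers z := QuotientGroup.eq
  have πz : π z = 1 := (QuotientGroup.eq_one_iff z).mpr (mem_zpowers z)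
  have hM' : (M.map π).Normal := hMn.map π (QuotientGroup.mk'_surjective _)
  have hV : ∀ m ∈ M, Commute m u → π m = 1 := fun m hm hc => by
    rcases h.cV m hc (hz m) with rfl | rfl | rfl | rfl
    · exact map_one π
    · exact absurd hm huM
    · exact πz
    · exact absurd ((mul_mem_cancel_left (hzM (mem_zpowers z))).mp hm) huM
  have πi : π i * π i = 1 := by rw [← map_mul, ii, πz]
  have key : ∀ t ∈ M.map π, t * t = 1 → Commute t (π i) := fun t ht htt =>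
    commute_of_outer (u := π u) (b := π (a ^ 2 ^ n)) (normalizer_eq_top (M.map π) ▸ mem_top _)
      (by rintro ⟨m, hm, e⟩; exact huM ((mul_mem_cancel_left (inv_mem hm)).mp (hzM (hπ.mp e))))
      (by rw [← map_mul, h.uu, map_one]) (by
        rintro _ ⟨m, hm, rfl⟩ hc
        have h1 : π u = π (m * u * m⁻¹) := by rw [map_mul, map_mul, hc.eq]; simp
        rcases mem_zpowers_two h.zz (hπ.mp h1) with e | e
        · exact Or.inl (hV m hm (mul_inv_eq_iff_eq_mul.mp (inv_mul_eq_one.mp e).symm))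
        · refine Or.inr ?_
          have h2 := hV (i⁻¹ * m) (mul_mem (inv_mem (h2M hi2)) hm) (mul_inv_eq_iff_eq_mul.mp (by
            rw [show i⁻¹ * m * u * (i⁻¹ * m)⁻¹ = i⁻¹ * (m * u * m⁻¹) * i by group,
              inv_mul_eq_iff_eq_mul.mp e, (hz u).eq, ← iu]
            group))
          rw [map_mul, map_inv, inv_mul_eq_one] at h2
          exact h2.symm) (normalizer_eq_top (M.map π) ▸ mem_top _) (by
        have h1 : a ^ 2 ^ n * u * (a ^ 2 ^ n)⁻¹ = i * (z ^ 2 ^ n)⁻¹ * u := by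
          have h2 := h.conj (2 ^ n)
          rw [show a ^ 2 ^ n * u * (a ^ 2 ^ n)⁻¹ = a ^ 2 ^ n * (u * a ^ 2 ^ n * u⁻¹)⁻¹ * u by group, h2,
            mul_inv_rev, inv_inv, ← ((hz (a ^ 2 ^ n)).pow_right _).inv_right.eq, ← mul_assoc, hi',
            ← pow_add, ← two_mul, ← pow_succ']
        rw [← map_inv, ← map_mul, ← map_mul, h1, map_mul, map_mul, map_inv, map_pow π z, πz, one_pow,
          inv_one, mul_one, ← map_mul, mul_inv_eq_iff_eq_mul.mp iu, map_mul, map_mul, πz, one_mul])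
      ((Commute.pow_pow_self a _ _).map π) ht htt
  have hsq := sq_of_closure (s := Group.conjugatesOfSet {π i}) (fun x hx y hy => by
    obtain ⟨_, rfl, hx⟩ := Group.mem_conjugatesOfSet_iff.mp hx
    obtain ⟨_, rfl, hy⟩ := Group.mem_conjugatesOfSet_iff.mp hy
    obtain ⟨g, rfl⟩ := isConj_iff.mp hx
    obtain ⟨k, rfl⟩ := isConj_iff.mp hy
    have h1 := key _ (hM'.conj_mem _ (mem_map_of_mem π (h2M hi2)) (k⁻¹ * g)) (CIT.conj_sq πi)
    calc _ = k * (k⁻¹ * g * π i * (k⁻¹ * g)⁻¹ * π i) * k⁻¹ := by group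
      _ = _ := by rw [h1.eq]; group) (fun x hx => by
    obtain ⟨_, rfl, hx⟩ := Group.mem_conjugatesOfSet_iff.mp hx
    obtain ⟨g, rfl⟩ := isConj_iff.mp hx
    exact CIT.conj_sq πi)
  let N := (normalClosure {π i}).comap π
  have hNn : N.Normal := normalClosure_normal.comap π
  have hN2 : IsPGroup 2 N := IsPGroup.comap_of_ker_isPGroup
    (CIT.isPGroup_of_two fun x hx => CIT.two_of_sq (hsq x hx)) π (by
      rw [QuotientGroup.ker_mk']; exact (CIT.two_of_sq h.zz).isPGroup)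
  have hNS := h.sylow.le_of_le_normalizer hN2 le_top (normalizer_eq_top N ▸ le_top)
  have hNM : N ≤ M := fun x hx => by
    obtain ⟨m, hm, e⟩ := normalClosure_le_normal (N := M.map π) (Set.singleton_subset_iff.mpr
      (mem_map_of_mem π (h2M hi2))) hx
    exact (mul_mem_cancel_left (inv_mem hm)).mp (hzM (hπ.mp e))
  have hiN : i ∈ N := subset_normalClosure (Set.mem_singleton _)
  have hzN : zpowers z ≤ N := zpowers_le.mpr (ii ▸ mul_mem hiN hiN)
  have hwN : a * u ∈ N := by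
    simpa [mul_assoc] using hNn.conj_mem _ ((mul_mem_cancel_right (inv_mem hiN)).mp (hzN hw)) g₀
  have ha2 : a ^ 2 ∈ N := by
    have h1 := mul_mem (hNn.conj_mem _ hwN a) (inv_mem hwN)
    rw [show a * (a * u) * a⁻¹ * (a * u)⁻¹ = a ^ 2 * (u * a ^ 1 * u⁻¹)⁻¹ * a⁻¹ by rw [_root_.sq]; group, h.conj,
      pow_one, pow_one, show a ^ 2 * (a⁻¹ * z)⁻¹ * a⁻¹ = a ^ 2 * z⁻¹ by group] at h1
    exact (mul_mem_cancel_right (inv_mem (hzN (mem_zpowers z)))).mp h1
  have hn : n = 0 := by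
    have h1 := hsq _ ha2
    rw [← map_mul, ← pow_add] at h1
    have h2 : a ^ 8 = 1 := by
      rw [show 8 = (2 + 2) * 2 by rfl, pow_mul, _root_.sq]
      rcases mem_zpowers_two h.zz ((QuotientGroup.eq_one_iff _).mp h1) with e | e <;> rw [e]
      · exact mul_one 1
      · exact h.zz
    have h3 := (Nat.pow_dvd_pow_iff_le_right one_lt_two).mp
      (show 2 ^ (n + 3) ∣ 2 ^ 3 from h.ord ▸ orderOf_dvd_of_pow_eq_one h2)
    omega
  have haM : a ∉ M := fun e => huM ((mul_mem_cancel_left e).mp hwM)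
  have hNQ : N = zpowers (a ^ 2) ⊔ zpowers (a * u) := by
    refine le_antisymm (fun x hx => ?_) (sup_le (zpowers_le.mpr ha2) (zpowers_le.mpr hwN))
    have ev : ∀ k, a ^ (2 * k) ∈ zpowers (a ^ 2) := fun k => pow_mul a 2 k ▸ pow_mem (mem_zpowers _) k
    obtain ⟨j, rfl | rfl⟩ := h.mem_S (hNS hx) <;> rcases Nat.even_or_odd' j with ⟨k, rfl | rfl⟩
    · exact mem_sup_left (ev k)
    · exact absurd ((mul_mem_cancel_left (h2M (ev k))).mp (pow_succ a _ ▸ hNM hx)) haM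
    · exact absurd ((mul_mem_cancel_left (h2M (ev k))).mp (hNM hx)) huM
    · rw [pow_succ a (2 * k), mul_assoc]
      exact mul_mem (mem_sup_left (ev k)) (mem_sup_right (mem_zpowers _))
  exact ⟨hn, hNQ ▸ hNn, ⟨M, hM, huM, zpowers_le.mp h2M⟩, hw2⟩

end SD

theorem SD.bw0 {a u : G} {n : ℕ} (h : SD a u n) (hz : ∀ g, Commute g (a ^ 2 ^ (n + 2))) {g₀ : G}
    (hf : g₀⁻¹ * (a * u) * g₀ ∈ zpowers a) : n = 0 ∧ ∃ r K L, BW0 a u r K L := by
  obtain ⟨rfl, hQ, ⟨M, hM, huM, h2M⟩, hw⟩ := h.normal_q8 hz hf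
  refine ⟨rfl, ?_⟩
  obtain ⟨-, q2, q3⟩ := h.half h.au_mem h.au_notMem
  have ord : orderOf a = 8 := h.ord
  have zz : a ^ 4 * a ^ 4 = 1 := h.zz
  have z2 : orderOf (a ^ 4) = 2 := CIT.orderOf_eq_two h.z1 zz
  have cS : Nat.card ↥(zpowers a ⊔ zpowers u) = 16 := h.card_S
  change ∀ g, Commute g (a ^ 4) at hz
  set Q := zpowers (a ^ 2) ⊔ zpowers (a * u) with hQ'
  have hiQ : a ^ 2 ∈ Q := mem_sup_left (mem_zpowers _)
  have hwQ : a * u ∈ Q := mem_sup_right (mem_zpowers _)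
  have hzQ : a ^ 4 ∈ Q := mem_sup_left h.z_mem
  have nc : ∀ j, ¬ Commute (a ^ j * u) (a ^ 2) := fun j hc => by
    have h1 : Commute u (a ^ 2) := by
      simpa using ((Commute.pow_pow_self a j 2).inv_left.mul_left hc)
    have h2 := h.conj2 1
    rw [mul_one, h1.eq, mul_inv_cancel_right, eq_inv_iff_mul_eq_one, ← pow_add] at h2
    exact h.z1 h2
  obtain ⟨e⟩ : Nonempty (Q ≃* Q8) := by
    rcases LinP.cyclic_or_quaternion (G := Q) (IsPGroup.of_card q2) (fun t c ht hc => by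
      have key : ∀ x : Q, x ^ 2 = 1 → x = 1 ∨ (x : G) = a ^ 4 := fun x hx => by
        have h1 : (x : G) * x = 1 := by rw [← _root_.sq]; exact congrArg Subtype.val hx
        obtain ⟨j, e | e⟩ := q3 _ x.2
        · exact (h.uniq (e ▸ pow_mem (mem_zpowers a) _) h1).imp_left Subtype.ext
        · rw [e, ← mul_assoc (a ^ _), ← pow_succ, h.sq, h.od] at h1
          exact absurd h1 h.z1
      have h1 := (key t (ht ▸ pow_orderOf_eq_one t)).resolve_left
        (ne_one_of_orderOf_eq_prime Nat.prime_two ht)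
      rcases key c hc with e | e
      · exact e ▸ one_mem _
      · exact Subtype.ext (h1.trans e.symm) ▸ mem_zpowers t) with hc | ⟨-, m, ⟨e⟩⟩
    · refine absurd ?_ (nc 1)
      rw [pow_one]
      exact congrArg Subtype.val (hc.isMulCommutative.1.comm ⟨_, hwQ⟩ ⟨_, hiQ⟩)
    · have h1 := Nat.card_congr e.toEquiv
      rw [q2, Nat.card_eq_fintype_card, QuaternionGroup.card] at h1
      obtain rfl : m = 0 := by
        rcases m with _ | m
        · rfl
        · rw [pow_succ, pow_succ] at h1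
          have := Nat.one_le_two_pow (n := m)
          omega
      exact ⟨e⟩
  obtain ⟨f, hf⟩ := exists_perm_four_of_normal_q8 e
  have hf' : ∀ {x : G}, x ∈ f.ker → ∀ y ∈ Q, y * x = x * y := fun hx => by
    rw [hf] at hx; exact hx
  have hkN : normalizer (f.ker : Set G) = ⊤ := normalizer_eq_top _
  have c24 : Nat.card (Equiv.Perm (Fin 4)) = 24 := by simp [Fintype.card_perm]; rfl
  have hzC : zpowers (a ^ 4) ≤ f.ker := zpowers_le.mpr (hf ▸ fun x _ => (hz x).eq)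
  have hSC : (zpowers a ⊔ zpowers u) ⊓ f.ker = zpowers (a ^ 4) := by
    refine le_antisymm (fun x hx => ?_) (le_inf (zpowers_le.mpr (mem_sup_left
      (pow_mem (mem_zpowers a) 4))) hzC)
    have h1 := hf' hx.2
    obtain ⟨j, rfl | rfl⟩ := h.mem_S hx.1
    · have h2 : Commute (a ^ j) u := by
        simpa using (Commute.pow_self a j).inv_right.mul_right (h1 _ hwQ).symm
      rcases h.cV _ h2 (hz _) with e | e | e | e
      · exact e ▸ one_mem _
      · exact absurd (e ▸ pow_mem (mem_zpowers a) j) h.notMem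
      · exact e ▸ mem_zpowers _
      · exact absurd ((mul_mem_cancel_left (pow_mem (mem_zpowers a) _)).mp
          (e ▸ pow_mem (mem_zpowers a) j)) h.notMem
    · exact absurd (h1 _ hiQ).symm (nc j)
  have hC : IsSylowIn 2 (zpowers (a ^ 4)) f.ker :=
    hSC ▸ h.sylow.inf_of_le_normalizer le_top hkN.ge
  have odd : ∀ X : Subgroup G, IsSylowIn 2 (zpowers (a ^ 4)) X → u ∈ normalizer (X : Set G) →
      ∃ hX : HasNPC 2 X, Nat.card X = Nat.card hX.compl * 2 ∧ ∀ k ∈ hX.compl, u * k * u⁻¹ = k⁻¹ := by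
    intro X h1 h2
    have hX := Block.hasNPC_of_isCyclic h1 inferInstance
    refine ⟨hX, card_eq_two_mul z2 h1 hX, fun k hk => inverts_of_fpf (hX.normalizer_le h2) h.uu
      (fun x hx hc => ?_) hk⟩
    refine Block.eq_one_of_mul_self_of_odd ?_ (hX.mem_compl.mp hx).2
    rcases h.cV x hc (hz x) with rfl | rfl | rfl | rfl
    · exact mul_one 1
    · exact h.uu
    · exact h.zz
    · rw [mul_assoc, ← mul_assoc u, h.uz.eq, mul_assoc, h.uu, mul_one, h.zz]
  obtain ⟨hK, k1, k2⟩ := odd _ hC (hkN ▸ mem_top u)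
  have hTX : f.ker ⊔ (zpowers a ⊔ zpowers u) ≤ normalizer (zpowers (a ^ 2) : Set G) := by
    refine sup_le (fun x hx => zpowers_le.mp (norm_zpowers ?_)) (sup_le (norm_zpowers ?_) (norm_zpowers ?_))
    · rw [← hf' hx _ hiQ]; simp
    · rw [(Commute.self_pow a 2).eq]; simp
    · rw [show a ^ 2 = a ^ (2 * 1) from rfl, h.conj2]; exact inv_mem (mem_zpowers _)
  have hX : normalizer (zpowers (a ^ 2) : Set G) ≠ ⊤ := fun e => h.au_notMem (by
    have h1 := conj_mem_of_mem_normalizer (e ▸ mem_top g₀) hw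
    simpa [mul_assoc] using zpowers_le.mpr (pow_mem (mem_zpowers a) 2) h1)
  obtain ⟨hT, hi⟩ : (f.ker ⊔ (zpowers a ⊔ zpowers u)).index = 3 ∧ f.ker.index = 24 := by
    have h1 := card_sup_mul_card_inf (N := f.ker) (A := zpowers a ⊔ zpowers u)
      (hkN ▸ le_top)
    rw [inf_comm, hSC, Nat.card_zpowers, z2, cS] at h1
    have h2 := (f.ker ⊔ (zpowers a ⊔ zpowers u)).card_mul_index
    have h3 := f.ker.card_mul_index
    have h4 : f.ker.index ∣ 24 := by
      rw [index_ker]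
      exact c24 ▸ card_subgroup_dvd_card f.range
    have h5 : (f.ker ⊔ (zpowers a ⊔ zpowers u)).index ≠ 1 := fun e =>
      hX (eq_top_iff.mpr (index_eq_one.mp e ▸ hTX))
    have h6 : f.ker.index = (f.ker ⊔ (zpowers a ⊔ zpowers u)).index * 8 :=
      Nat.eq_of_mul_eq_mul_left (Nat.card_pos (α := f.ker)) (by
        rw [h3, ← h2, show Nat.card ↥(f.ker ⊔ (zpowers a ⊔ zpowers u)) = Nat.card f.ker * 8 by omega]
        ring)
    rw [h6] at h4 ⊢
    have h7 := (Nat.dvd_prime Nat.prime_three).mp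
      (Nat.dvd_of_mul_dvd_mul_right (by norm_num) (show _ * 8 ∣ 3 * 8 from h4))
    omega
  have hsurj : Function.Surjective f := by
    rw [← MonoidHom.range_eq_top, ← card_eq_iff_eq_top, ← index_ker, hi, c24]
  have hCK : f.ker = hK.compl ⊔ zpowers (a ^ 4) := by rw [sup_comm, hK.sup_compl hC]
  have hCM : f.ker ≤ M := hCK ▸ sup_le (fun x hx => mem_of_pow_mem_of_coprime (hK.mem_compl.mp hx).2
    (sq_mem_of_index_two hM x)) (zpowers_le.mpr (by simpa [← pow_mul] using pow_mem h2M 2))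
  obtain ⟨ρ, r1, r3, r4, r5⟩ := s4_inv (f u) (by rw [← map_mul, h.uu, map_one]) (fun τ hτ => by
    obtain ⟨g, rfl⟩ := hsurj τ
    rw [← map_mul, eq_comm, ← mul_inv_eq_one, ← map_inv, ← map_mul] at hτ
    exact huM ((mul_mem_cancel_right (inv_mem (mul_self_mem_of_index_two hM g))).mp (hCM hτ)))
  have ρ3 : orderOf ρ = 3 := orderOf_eq_prime r3 r1
  let E := (zpowers ρ).comap f
  have hCE : f.ker ≤ E := ker_le_comap _ _
  have hE3 : f.ker.relIndex E = 3 := by
    rw [relIndex_ker, map_comap_eq_self_of_surjective hsurj, Nat.card_zpowers, ρ3]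
  obtain ⟨hE, -, k4⟩ := odd E ⟨hzC.trans hCE, hC.isPGroup, by
    rw [← relIndex_mul_relIndex _ _ _ hzC hCE, hE3, Nat.prime_two.dvd_mul]
    exact fun e => e.elim hC.not_dvd (by decide)⟩ (mem_normalizer_of_conj_mem fun x hx => by
      rw [mem_comap, map_mul, map_mul, map_inv]
      exact conj_mem_of_mem_normalizer (zpowers_le.mp (norm_zpowers (r4 ▸ inv_mem (mem_zpowers ρ)))) hx)
  obtain ⟨x, rfl⟩ := hsurj ρ
  obtain ⟨m, m1, m2⟩ := exists_pow_coprime_map_eq Nat.prime_two f (x := x) (by rw [ρ3]; decide)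
  have hKQ : ∀ k ∈ hK.compl, ∀ y ∈ Q, y * k = k * y := fun k hk => hf' (hK.compl_le hk)
  refine ⟨x ^ m, hK.compl, E, ord, h.uu, h.ua, hK.coprime_card Nat.prime_two, k2, fun k hk => ?_,
    fun g _ => hK.normalizer_le (hkN ▸ mem_top g), ?_, fun g hg => ?_, m1,
    hK.mem_compl.mpr ⟨?_, m1.coprime_dvd_left (orderOf_pow_dvd 3)⟩, fun e => r1 (m2 ▸ hK.compl_le e),
    (hz _).symm, k4 _ (hE.mem_compl.mpr ⟨?_, m1⟩), ?_, fun g _ k hk k' hk' e => ?_⟩
  · rw [show a * k * a⁻¹ = a * u * (u * k * u⁻¹) * (a * u)⁻¹ by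
      rw [← mul_assoc, ← mul_assoc, mul_assoc a u u, h.uu, mul_inv_rev, mul_assoc _ u⁻¹,
        ← mul_assoc u⁻¹, h.ui, h.uu]; simp, k2 k hk, hKQ _ (inv_mem hk) _ hwQ, mul_inv_cancel_right]
  · rw [(eq_top_iff' (centralizer {a ^ 4})).mpr fun g => mem_centralizer_singleton_iff.mpr (hz g).eq, card_top,
      ← f.ker.card_mul_index, hi, k1]
    ring
  · have h1 := (eq_or_top_of_index_three hT hTX).resolve_right hX ▸
      (centralizer_zpowers (a ^ 2) ▸ centralizer_le_normalizer _ : centralizer {a ^ 2} ≤ _) hg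
    obtain ⟨c, hc, s, hs, rfl⟩ := (mem_sup_of_right_le_normalizer
      (hkN ▸ le_top)).mp h1
    have h2 : c ∈ centralizer {a ^ 2} := mem_centralizer_singleton_iff.mpr (hf' hc _ hiQ).symm
    have h3 := mem_centralizer_singleton_iff.mp ((mul_mem_cancel_left h2).mp hg)
    refine mul_mem ((sup_le_sup_left (zpowers_le.mpr (pow_mem (mem_zpowers a) 4)) _) (hCK ▸ hc)) ?_
    obtain ⟨j, rfl | rfl⟩ := h.mem_S hs
    · exact mem_sup_right (pow_mem (mem_zpowers a) j)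
    · exact absurd h3 (nc j)
  · rw [MonoidHom.mem_ker, map_pow, m2, r3]
  · rw [mem_comap, m2]; exact mem_zpowers _
  · rw [← card_mul_relIndex hCE, hE3, k1]; omega
  · have h1 := congrArg f e
    rw [map_mul, map_mul, map_mul, map_mul, hK.compl_le hk, hK.compl_le hk', m2, mul_one, map_inv] at h1
    rw [mem_comap]
    rcases r5 _ h1 with e | e | e <;> rw [e]
    · exact one_mem _
    · exact mem_zpowers _
    · exact inv_mem (mem_zpowers _)

theorem BW0.map {a u r : G} (H : Subgroup G) (hH : H = centralizer {a ^ 4}) (ha : a ∈ H) (hu : u ∈ H)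
    (hr : r ∈ H) {K L : Subgroup H} (h : BW0 (⟨a, ha⟩ : H) ⟨u, hu⟩ ⟨r, hr⟩ K L) :
    BW0 a u r (K.map H.subtype) (L.map H.subtype) := by
  have hc : ∀ X : Subgroup H, Nat.card (X.map H.subtype) = Nat.card X := fun X =>
    card_map_of_injective H.subtype_injective
  have hz : ∀ g : H, g ∈ centralizer {(⟨a, ha⟩ : H) ^ 4} := fun g =>
    mem_centralizer_singleton_iff.mpr (Subtype.ext (mem_centralizer_singleton_iff.mp (hH ▸ g.2)))
  refine ⟨(orderOf_mk a ha).symm.trans h.ord, congrArg Subtype.val h.uu, congrArg Subtype.val h.ua,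
    hc K ▸ h.odd, ?_, ?_, fun g hg => mem_normalizer_of_conj_mem ?_, ?_, fun g hg => ?_,
    orderOf_mk r hr ▸ h.ro, ⟨_, h.r3, rfl⟩, ?_, congrArg Subtype.val h.ra.eq, congrArg Subtype.val h.ur,
    by rw [hc, hc]; exact h.cardL, ?_⟩
  · rintro _ ⟨k, hk, rfl⟩
    exact congrArg Subtype.val (h.uK k hk)
  · rintro _ ⟨k, hk, rfl⟩
    exact congrArg Subtype.val (h.aK k hk)
  · rintro _ ⟨k, hk, rfl⟩
    exact ⟨_, conj_mem_of_mem_normalizer (h.norm (hz ⟨g, hH ▸ hg⟩)) hk, rfl⟩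
  · rw [hc, ← h.cardC, (eq_top_iff' _).mpr hz, card_top, hH]
  · have h1 : g ∈ H := hH ▸ mem_centralizer_singleton_iff.mpr (by
      simpa [← pow_mul] using (Commute.pow_right (mem_centralizer_singleton_iff.mp hg) 2).eq)
    have h2 := mem_map_of_mem H.subtype (h.ci (x := ⟨g, h1⟩)
      (mem_centralizer_singleton_iff.mpr (Subtype.ext (mem_centralizer_singleton_iff.mp hg))))
    rwa [Subgroup.map_sup, MonoidHom.map_zpowers] at h2
  · rintro ⟨k, hk, e⟩
    exact h.rK ((Subtype.ext e : k = ⟨r, hr⟩) ▸ hk)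
  · rintro g hg _ ⟨k, hk, rfl⟩ _ ⟨k', hk', rfl⟩ e
    have h1 : g ∈ H := hH ▸ mem_centralizer_singleton_iff.mpr hg.eq.symm
    exact ⟨⟨g, h1⟩, h.cr _ (Subtype.ext hg.eq) k hk k' hk' (Subtype.ext e), rfl⟩

theorem BW.final [IsSimpleGroup G] {a u r : G} {K L : Subgroup G} (h : BW a u r K L) :
    Nonempty (G ≃* Matrix.ProjectiveSpecialLinearGroup (Fin 3) (ZMod 3)) ∨ Nonempty (G ≃* M11.Mx) := by
  obtain ⟨rfl, hG⟩ := h.main
  have hl : Loc (a ^ 4) u r := ⟨h.pow_ne (j := 0) (by decide) ∘ fun e => e.trans (pow_zero a).symm,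
    by rw [← pow_add, h.a8], fun e => h.notMem (e ▸ one_mem _),
    fun e => h.notMem (e ▸ pow_mem (mem_zpowers a) 4), h.uu, h.uz.symm, by simpa [M11.cc] using h.cardC, h.one,
    orderOf_eq_prime (mem_bot.mp h.r3) fun e => h.rK (mem_bot.mpr e), h.ra, h.ur,
    le_trans (card_le_of_le fun g hg => h.cr g (mem_centralizer_singleton_iff.mp hg.1).symm 1
      (one_mem _) 1 (one_mem _) (by
        rw [mul_one, mem_centralizer_singleton_iff.mp hg.2, mul_inv_cancel_right]))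
      (by simpa using h.cardL)⟩
  exact hG.imp hl.psl33 hl.m11

theorem index_ne_two [IsSimpleGroup G] (h : Nat.card G ≠ 2) (M : Subgroup G) : M.index ≠ 2 := fun e => by
  rcases (normal_of_index_eq_two e).eq_bot_or_eq_top with rfl | rfl
  · exact h (index_bot.symm.trans e)
  · simp at e

/-- **Brauer–Wong**: a simple group with a semidihedral Sylow `2`-subgroup and a self-centralising
four-group is `PSL₃(3)` or `M₁₁`. -/
theorem SD.main [IsSimpleGroup G] {a u : G} {n : ℕ} (h : SD a u n) :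
    Nonempty (G ≃* Matrix.ProjectiveSpecialLinearGroup (Fin 3) (ZMod 3)) ∨ Nonempty (G ≃* M11.Mx) := by
  have H2 := index_ne_two (G := G) fun e => by
    have h1 := card_subgroup_dvd_card (zpowers a ⊔ zpowers u)
    rw [h.card_S, e] at h1
    exact absurd ((Nat.pow_dvd_pow_iff_le_right one_lt_two).mp (show _ ∣ 2 ^ 1 from h1)) (by omega)
  obtain ⟨g, g1, g2⟩ := h.fuse H2
  let H := centralizer ({a ^ 2 ^ (n + 2)} : Set G)
  have ha : a ∈ H := mem_centralizer_singleton_iff.mpr (Commute.self_pow a _).eq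
  have hu : u ∈ H := mem_centralizer_singleton_iff.mpr h.uz.eq
  have h' : SD (⟨a, ha⟩ : H) ⟨u, hu⟩ n := ⟨(orderOf_mk a ha).trans h.ord, Subtype.ext h.uu,
    Subtype.ext h.ua, fun e => h.syl (e.trans (card_subgroup_dvd_card H)), fun g h1 h2 =>
      (h.cV g (congrArg Subtype.val h1) (congrArg Subtype.val h2)).imp Subtype.ext
        (Or.imp Subtype.ext (Or.imp Subtype.ext Subtype.ext))⟩
  obtain ⟨rfl, r, K, L, h1⟩ := h'.bw0 (fun g => Subtype.ext (mem_centralizer_singleton_iff.mp g.2))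
    (g₀ := ⟨g, mem_centralizer_singleton_iff.mpr g1.eq⟩) (by
      obtain ⟨i, hi⟩ := g2
      exact ⟨i, Subtype.ext hi⟩)
  exact BW.final ⟨BW0.map H rfl ha hu r.2 h1, fun t => h.one H2⟩

end Cfsg.Agent.Wong
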