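import Cfsg.Agent.Wong.Excl
import Cfsg.Agent.BSW.Hii

/-!
# Dihedral Sylow subgroups and a maximal four-group normaliser
-/

set_option autoImplicit false
set_option linter.unusedSectionVars false

namespace Cfsg.Agent.Wong

open Subgroup Cfsg.Agent.Local MulAction
open scoped Pointwise

variable {G : Type*} [Group G] [Finite G]

theorem norm_sup2 {g x y : G} (h1 : g * x * g⁻¹ ∈ zpowers x ⊔ zpowers y)
    (h2 : g * y * g⁻¹ ∈ zpowers x ⊔ zpowers y) :
    g ∈ normalizer ((zpowers x ⊔ zpowers y : Subgroup G) : Set G) :=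
  have : zpowers x ⊔ zpowers y ≤ (zpowers x ⊔ zpowers y).comap (MulAut.conj g).toMonoidHom :=
    sup_le (zpowers_le.mpr h1) (zpowers_le.mpr h2)
  mem_normalizer_of_conj_mem fun _ hx => this hx

/-- Dihedral Sylow subgroup `⟨a, u⟩` with a self-centralising four-group whose normaliser is
maximal. -/
structure DH (H : Subgroup G) (a u z ρ : G) (n : ℕ) : Prop where
  ord : orderOf a = 2 ^ (n + 3)
  hz : z = a ^ 2 ^ (n + 2)
  uu : u * u = 1
  ua : u * a * u⁻¹ = a⁻¹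
  syl : ¬ 2 ^ (n + 5) ∣ Nat.card G
  cV : ∀ g, Commute g u → Commute g z → g = 1 ∨ g = u ∨ g = z ∨ g = z * u
  co : IsCoatom H
  hH : normalizer ((zpowers z ⊔ zpowers u : Subgroup G) : Set G) = H
  ρH : ρ ∈ H
  ρz : ρ * z * ρ⁻¹ = u

namespace DH

variable {H : Subgroup G} {a u z ρ : G} {n : ℕ} (h : DH H a u z ρ n)
include h

theorem z1 : z ≠ 1 := h.hz ▸ CIT.pow_half_ne_one h.ord

theorem zz : z * z = 1 := h.hz ▸ CIT.pow_half_sq h.ord

theorem ui : u⁻¹ = u := inv_eq_of_mul_eq_one_right h.uu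

theorem conj (i : ℕ) : u * a ^ i * u⁻¹ = (a ^ i)⁻¹ := by rw [← conj_pow, h.ua, inv_pow]

theorem conj' (i : ℕ) : a ^ i * u * (a ^ i)⁻¹ = a ^ i * a ^ i * u := by
  rw [← h.conj, h.ui]; simp [mul_assoc, ← mul_assoc u u, h.uu]

theorem ss : a ^ 2 ^ (n + 1) * a ^ 2 ^ (n + 1) = z := by rw [h.hz, ← pow_add, ← two_mul, ← pow_succ']

theorem az (i : ℕ) : Commute (a ^ i) z := h.hz ▸ Commute.pow_pow_self a _ _

theorem uz : Commute u z := by
  have h1 := h.conj (2 ^ (n + 2))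
  rw [← h.hz, inv_eq_of_mul_eq_one_right h.zz] at h1
  exact mul_inv_eq_iff_eq_mul.mp h1

theorem nc : ¬ Commute (a ^ 2 ^ (n + 1)) u := fun e => by
  have h1 := h.conj' (2 ^ (n + 1))
  rw [e.eq, mul_inv_cancel_right, h.ss, eq_comm, mul_eq_right] at h1
  exact h.z1 h1

theorem nb : u ∉ zpowers a := by
  rintro ⟨i, rfl⟩
  exact h.nc ((Commute.self_zpow a i).pow_left _)

theorem uN : u * a * u⁻¹ ∈ zpowers a := h.ua ▸ inv_mem (mem_zpowers a)

theorem sylow : IsSylowIn 2 (zpowers a ⊔ zpowers u) ⊤ := by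
  have h1 : Nat.card ↥(zpowers a ⊔ zpowers u) = 2 ^ (n + 4) := by
    rw [card_sup2 (zpowers_le.mp (norm_zpowers h.uN)) (h.uu ▸ one_mem _) h.nb, Nat.card_zpowers,
      h.ord, pow_succ 2 (n + 3)]
  exact ⟨le_top, IsPGroup.of_card h1, fun h2 => h.syl (by
    rw [← (zpowers a ⊔ zpowers u).card_mul_index, h1, pow_succ 2 (n + 4), ← relIndex_top_right]
    exact Nat.mul_dvd_mul_left _ h2)⟩

theorem le_C : zpowers a ⊔ zpowers u ≤ centralizer {z} :=
  sup_le (zpowers_le.mpr (mem_centralizer_singleton_iff.mpr (pow_one a ▸ h.az 1)))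
    (zpowers_le.mpr (mem_centralizer_singleton_iff.mpr h.uz))

theorem conjV {g : G} (hg : g ∈ H) (v : G) (hv : v = z ∨ v = u ∨ v = z * u) :
    g * v * g⁻¹ = z ∨ g * v * g⁻¹ = u ∨ g * v * g⁻¹ = z * u := by
  have h1 : zpowers z ⊔ zpowers u ≤ centralizer {u} ⊓ centralizer {z} := sup_le
    (zpowers_le.mpr ⟨mem_centralizer_singleton_iff.mpr h.uz.symm, mem_centralizer_singleton_iff.mpr rfl⟩)
    (zpowers_le.mpr ⟨mem_centralizer_singleton_iff.mpr rfl, mem_centralizer_singleton_iff.mpr h.uz⟩)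
  have h2 := h1 (conj_mem_of_mem_normalizer (h.hH ▸ hg) (n := v) (by
    rcases hv with rfl | rfl | rfl
    · exact mem_sup_left (mem_zpowers _)
    · exact mem_sup_right (mem_zpowers _)
    · exact mul_mem_sup (mem_zpowers _) (mem_zpowers _)))
  have h3 := (h.cV _ (mem_centralizer_singleton_iff.mp h2.1)
    (mem_centralizer_singleton_iff.mp h2.2)).resolve_left (CIT.conj_ne_one (by
      rintro rfl
      rcases hv with e | e | e
      · exact h.z1 e.symm
      · exact h.nb (e ▸ one_mem _)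
      · exact h.nb (eq_inv_of_mul_eq_one_right e.symm ▸ h.hz ▸ inv_mem (pow_mem (mem_zpowers a) _))))
  tauto

theorem conju {g : G} (hg : g ∈ H) (hc : Commute g z) : g * u * g⁻¹ = u ∨ g * u * g⁻¹ = z * u :=
  (h.conjV hg u (by simp)).resolve_left fun e => h.nb (by
    rw [mul_inv_eq_iff_eq_mul, ← hc.eq, mul_right_inj] at e
    exact e ▸ h.hz ▸ pow_mem (mem_zpowers a) _)

theorem su : a ^ 2 ^ (n + 1) * u * (a ^ 2 ^ (n + 1))⁻¹ = z * u := by rw [h.conj', h.ss]

theorem sH : a ^ 2 ^ (n + 1) ∈ H :=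
  h.hH ▸ norm_sup2 (by rw [(h.az _).eq, mul_inv_cancel_right]; exact mem_sup_left (mem_zpowers _))
    (h.su ▸ mul_mem_sup (mem_zpowers _) (mem_zpowers _))

theorem npc : HasNPC 2 (centralizer ({z} : Set G)) := by
  have : Fact (Nat.Prime 2) := ⟨Nat.prime_two⟩
  have mS := fun x => mem_sup2' (x := x) h.uN (h.uu ▸ one_mem _)
  have key : ∀ X ≤ zpowers a ⊔ zpowers u, ∀ x, Commute x z → x ∈ normalizer (X : Set G) →
      (orderOf x).Coprime 2 → x ∈ centralizer (X : Set G) := fun X hX x hx hxX ho => by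
    have h1 : ∀ x, Commute x z → x ∈ normalizer (X : Set G) → ∀ y ∈ X ⊓ zpowers a,
        x * y * x⁻¹ ∈ X ⊓ zpowers a := fun x hx hxX y hy => by
      have h1 := conj_mem_of_mem_normalizer hxX hy.1
      refine ⟨h1, ?_⟩
      obtain ⟨j, e | e⟩ := mS _ (hX h1)
      · exact e ▸ pow_mem (mem_zpowers a) j
      have h2 : y * y = 1 := by
        rw [← conj_eq_one_iff (a := x), ← conj_mul, e, mul_assoc, ← mul_assoc u, ← h.ui, h.ui, ← mul_assoc,
          mul_assoc (a ^ j)]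
        nth_rewrite 2 [← h.ui]
        rw [h.conj, mul_inv_cancel]
      by_cases y1 : y = 1
      · simp [y1]
      · rw [(CIT.eq_of_sq_eq_one h.ord hy.2 y1 h2).trans h.hz.symm, hx.eq, mul_inv_cancel_right, h.hz]
        exact pow_mem (mem_zpowers a) _
    have h2 := mem_centralizer_of_isCyclic_two (isCyclic_of_le inferInstance inf_le_right)
      (h.sylow.isPGroup.to_le (inf_le_left.trans hX)) (mem_normalizer_of_conj_mem (h1 x hx hxX)) ho
    intro w hw
    by_cases hwa : w ∈ zpowers a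
    · exact h2 w ⟨hw, hwa⟩
    have h3 := conj_mem_of_mem_normalizer hxX hw
    have h4 : x * w * x⁻¹ * w⁻¹ ∈ X ⊓ zpowers a := mem_inf.mpr ⟨mul_mem h3 (inv_mem hw), by
      obtain ⟨i, e | e⟩ := mS _ (hX h3)
      · exact absurd (by simpa [mul_assoc] using
          (h1 x⁻¹ hx.inv_left (inv_mem hxX) _ ⟨h3, e ▸ pow_mem (mem_zpowers a) i⟩).2) hwa
      obtain ⟨j, rfl | rfl⟩ := mS _ (hX hw)
      · exact absurd (pow_mem (mem_zpowers a) j) hwa
      · rw [e, mul_inv_rev, mul_assoc, mul_inv_cancel_left]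
        exact mul_mem (pow_mem (mem_zpowers a) i) (inv_mem (pow_mem (mem_zpowers a) j))⟩
    obtain ⟨c, hc⟩ : ∃ c, x * w * x⁻¹ * w⁻¹ = c := ⟨_, rfl⟩
    rw [hc] at h4
    have h5 : ∀ k : ℕ, x ^ k * w * (x ^ k)⁻¹ = c ^ k * w := fun k => by
      induction k with
      | zero => simp
      | succ k ih =>
        calc _ = x * (x ^ k * w * (x ^ k)⁻¹) * x⁻¹ := by group
          _ = x * c ^ k * x⁻¹ * (x * w * x⁻¹ * w⁻¹) * w := by rw [ih]; group
          _ = _ := by rw [hc, ← (Commute.pow_left (h2 c h4) k).eq]; group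
    have h6 := h5 (orderOf x)
    rw [pow_orderOf_eq_one, one_mul, inv_one, mul_one, eq_comm, mul_eq_right] at h6
    rw [eq_one_of_mem_isPGroup_of_coprime h.sylow.isPGroup (hX h4.1)
      (ho.coprime_dvd_left (orderOf_dvd_of_pow_eq_one h6)), mul_inv_eq_one, mul_inv_eq_iff_eq_mul] at hc
    exact hc.symm
  refine hasNPC_of_local fun X hXC hX _ x hx hxX ho => ?_
  obtain ⟨g, hg, h1⟩ := (h.sylow.of_le h.le_C le_top).exists_le_conj hX hXC
  have h2 := key (MulAut.conj g⁻¹ • X) (fun y hy => by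
    simpa [mul_assoc] using mem_conj_smul_iff.mp (h1 (mem_conj_smul_iff.mp hy))) (g⁻¹ * x * g⁻¹⁻¹)
    (mem_centralizer_singleton_iff.mp (mul_mem (mul_mem (inv_mem hg) hx) (inv_mem (inv_mem hg))))
    (normalizer_conj_smul g⁻¹ X ▸ conj_mem_conj_smul _ hxX) (orderOf_conj' g⁻¹ x ▸ ho)
  rw [centralizer_conj_smul] at h2
  simpa [mul_assoc] using mem_conj_smul_iff.mp h2

theorem memK {k : G} : k ∈ h.npc.compl ↔ Commute k z ∧ (orderOf k).Coprime 2 :=
  and_congr_left' mem_centralizer_singleton_iff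

theorem conjK {g k : G} (hg : Commute g z) (hk : k ∈ h.npc.compl) : g * k * g⁻¹ ∈ h.npc.compl :=
  conj_mem_of_mem_normalizer (h.npc.le_normalizer (mem_centralizer_singleton_iff.mpr hg)) hk

theorem fpf {k : G} (hk : k ∈ h.npc.compl) (hc : Commute k u) : k = 1 := by
  refine Block.eq_one_of_mul_self_of_odd ?_ (h.memK.mp hk).2
  rcases h.cV k hc (h.memK.mp hk).1 with rfl | rfl | rfl | rfl
  · exact mul_one 1
  · exact h.uu
  · exact h.zz
  · rw [mul_assoc, ← mul_assoc u, h.uz.eq, mul_assoc, h.uu, mul_one, h.zz]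

theorem uK {k : G} (hk : k ∈ h.npc.compl) : u * k * u⁻¹ = k⁻¹ :=
  inverts_of_fpf (h.npc.le_normalizer (mem_centralizer_singleton_iff.mpr h.uz)) h.uu
    (fun _ => h.fpf) hk

theorem sK {k : G} (hk : k ∈ h.npc.compl) : Commute (a ^ 2 ^ (n + 1)) k := by
  have h1 := h.uK (h.conjK (h.az (2 ^ n)).inv_left (inv_mem hk))
  have h2 := h.conj' (2 ^ n)
  rw [← pow_add, ← two_mul, ← pow_succ'] at h2
  refine mul_inv_eq_iff_eq_mul.mp ?_
  calc _ = a ^ 2 ^ (n + 1) * u * (u * k * u⁻¹) * (a ^ 2 ^ (n + 1) * u)⁻¹ := by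
        rw [mul_inv_rev, h.ui]; simp only [mul_assoc, ← mul_assoc u u, h.uu, one_mul]
    _ = a ^ 2 ^ n * (u * ((a ^ 2 ^ n)⁻¹ * k⁻¹ * (a ^ 2 ^ n)⁻¹⁻¹) * u⁻¹) * (a ^ 2 ^ n)⁻¹ := by
        rw [h.uK hk, ← h2]; group
    _ = _ := by rw [h1]; group

theorem pK {g k : G} (hg : g ∈ H) (hc : Commute g z) (hk : k ∈ h.npc.compl) :
    g * k * g⁻¹ = k ∨ g * k * g⁻¹ = k⁻¹ := by
  have h1 : ∀ g, Commute g u → Commute g z → g * k * g⁻¹ = k ∨ g * k * g⁻¹ = k⁻¹ := fun g h1 h2 => by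
    have h3 := (h.memK.mp hk).1
    rcases h.cV g h1 h2 with rfl | rfl | rfl | rfl
    · simp
    · exact Or.inr (h.uK hk)
    · simp [← h3.eq]
    · right
      rw [show z * u * k * (z * u)⁻¹ = z * (u * k * u⁻¹) * z⁻¹ by group, h.uK hk, ← h3.inv_left.eq]
      simp
  rcases h.conju hg hc with e | e
  · exact h1 g (mul_inv_eq_iff_eq_mul.mp e) hc
  · have h2 := h1 ((a ^ 2 ^ (n + 1))⁻¹ * g) (mul_inv_eq_iff_eq_mul.mp (by
      rw [show ∀ s, s⁻¹ * g * u * (s⁻¹ * g)⁻¹ = s⁻¹ * (g * u * g⁻¹) * s from fun s => by group, e, ← h.su]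
      group)) ((h.az _).inv_left.mul_left hc)
    rw [(show ∀ s, g * k * g⁻¹ = s * (s⁻¹ * g * k * (s⁻¹ * g)⁻¹) * s⁻¹ from fun s => by group) (a ^ 2 ^ (n + 1))]
    rcases h2 with e' | e' <;> simp only [e']
    · simp [(h.sK hk).eq]
    · simp [(h.sK (inv_mem hk)).eq]

variable [IsSimpleGroup G]

theorem star {x y : G} (hx : x ∈ h.npc.compl) (x1 : x ≠ 1) (hy : Commute y u)
    (ho : (orderOf y).Coprime 2) (hc : Commute x y) : y = 1 := by
  have K' : ∀ y, Commute y u → (orderOf y).Coprime 2 → ρ⁻¹ * y * ρ⁻¹⁻¹ ∈ h.npc.compl := fun y hy ho =>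
    h.memK.mpr ⟨by simpa [← h.ρz, mul_assoc] using M11.commute_conj ρ⁻¹ hy, orderOf_conj' ρ⁻¹ y ▸ ho⟩
  have h1 : ∀ g ∈ H, Commute g z → Commute (g * x * g⁻¹) y := fun g hg hgz => by
    rcases h.pK hg hgz hx with e | e <;> rw [e]
    · exact hc
    · exact hc.inv_left
  have h2 : y ∈ centralizer {w | ∃ g ∈ H, g * x * g⁻¹ = w} := by
    rintro _ ⟨g, hg, rfl⟩
    rcases h.conjV hg z (by simp) with e | e | e
    · exact h1 g hg (mul_inv_eq_iff_eq_mul.mp e)
    · have h2 := M11.commute_conj ρ (Char.comm_of_inverts (fun _ => h.uK) _ (K' _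
        (e ▸ M11.commute_conj g (h.memK.mp hx).1) (orderOf_conj' g x ▸ (h.memK.mp hx).2)) _ (K' y hy ho))
      simpa [mul_assoc] using h2.eq
    · obtain ⟨s, hs⟩ : ∃ s, s = ρ * a ^ 2 ^ (n + 1) * ρ⁻¹ := ⟨_, rfl⟩
      have h3 : Commute s y := by
        simpa [hs, mul_assoc] using M11.commute_conj ρ (h.sK (K' y hy ho))
      have h4 : s * u * s⁻¹ = u := mul_inv_eq_iff_eq_mul.mpr (hs ▸ h.ρz ▸ M11.commute_conj ρ (h.az _))
      have h5 : s * z * s⁻¹ = u * z := by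
        have h5 : ∀ s', s' = a ^ 2 ^ (n + 1) → s' * (ρ⁻¹ * z * ρ⁻¹⁻¹) * s'⁻¹ = z * (ρ⁻¹ * z * ρ⁻¹⁻¹) := by
          rintro _ rfl
          rcases h.conjV (inv_mem h.ρH) z (by simp) with e | e | e <;> rw [e]
          · exfalso
            have h5 := h.ρz
            nth_rewrite 1 [← e] at h5
            exact h.nb (by simp only [mul_assoc, mul_inv_cancel_left, inv_inv, mul_inv_cancel, mul_one] at h5
                           exact h5 ▸ h.hz ▸ pow_mem (mem_zpowers a) _)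
          · exact h.su
          · rw [← mul_assoc, (h.az _).eq, mul_assoc z, mul_assoc z, h.su]
        calc _ = ρ * (a ^ 2 ^ (n + 1) * (ρ⁻¹ * z * ρ⁻¹⁻¹) * (a ^ 2 ^ (n + 1))⁻¹) * ρ⁻¹ := by rw [hs]; group
          _ = _ := by rw [h5 _ rfl, ← h.ρz]; group
      have h6 := M11.commute_conj s⁻¹ (h1 (s * g) (mul_mem (hs ▸ mul_mem (mul_mem h.ρH h.sH)
        (inv_mem h.ρH)) hg) (mul_inv_eq_iff_eq_mul.mp (by
          calc _ = s * (g * z * g⁻¹) * s⁻¹ := by group
            _ = s * z * s⁻¹ * (s * u * s⁻¹) := by rw [e]; group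
            _ = _ := by rw [h4, h5, h.uz.eq, mul_assoc, h.uu, mul_one])))
      rw [h3.inv_left.eq] at h6
      simpa [mul_assoc] using h6.eq
  have h3 : H ≤ normalizer ((centralizer {w | ∃ g ∈ H, g * x * g⁻¹ = w} : Subgroup G) : Set G) :=
    fun g hg => mem_normalizer_of_conj_mem (by
      rintro c hc _ ⟨k, hk, rfl⟩
      have := M11.commute_conj g (hc _ ⟨g⁻¹ * k, mul_mem (inv_mem hg) hk, rfl⟩)
      simpa [mul_assoc] using this.eq)
  rcases h3.eq_or_lt with e | e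
  · have h4 : ρ⁻¹ * y * ρ⁻¹⁻¹ ∈ H := mul_mem (mul_mem (inv_mem h.ρH) (e ▸ le_normalizer h2))
      (inv_mem (inv_mem h.ρH))
    have h5 := K' y hy ho
    rw [← conj_eq_one_iff (a := ρ⁻¹)]
    generalize ρ⁻¹ * y * ρ⁻¹⁻¹ = k at h4 h5
    have h6 := (h.memK.mp h5).1
    refine Block.eq_one_of_mul_self_of_odd (h.fpf (mul_mem h5 h5) (mul_inv_eq_iff_eq_mul.mp ?_))
      (h.memK.mp h5).2
    rw [show k * k * u * (k * k)⁻¹ = k * (k * u * k⁻¹) * k⁻¹ by group]
    rcases h.conju h4 h6 with e | e <;> rw [e]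
    · exact e
    · rw [← mul_assoc, h6.eq, mul_assoc z, mul_assoc z, e, ← mul_assoc, h.zz, one_mul]
  · rcases (normalizer_eq_top_iff.mp (h.co.2 _ e)).eq_bot_or_eq_top with e | e
    · exact mem_bot.mp (e ▸ h2)
    · exact absurd (h.fpf hx (e.ge (mem_top u) x ⟨1, one_mem _, by simp⟩)) x1

theorem hC {x g : G} (hx : x ∈ h.npc.compl) (x1 : x ≠ 1) (hg : Commute g x) (hu : Commute g u) :
    g = 1 ∨ g = z := by
  have xz := (h.memK.mp hx).1
  have h1 : ∀ g, Commute g x → Commute g u → Commute g z → g = 1 ∨ g = z := fun g h1 h2 h3 => by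
    rcases h.cV g h2 h3 with e | rfl | e | rfl
    · exact Or.inl e
    · exact absurd (h.fpf hx h1.symm) x1
    · exact Or.inr e
    · exact absurd (h.fpf hx (by simpa using xz.inv_right.mul_right h1.symm)) x1
  have mT : ∀ {g}, g ∈ centralizer {x} ⊓ centralizer {u} ↔ Commute g x ∧ Commute g u :=
    and_congr mem_centralizer_singleton_iff mem_centralizer_singleton_iff
  obtain ⟨c, hc, c1, -, h2⟩ := exists_central (S := centralizer {x} ⊓ centralizer {u})
    (CIT.isPGroup_of_two fun y hy => by_contra fun e => by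
      obtain ⟨m, h2, h3⟩ := CIT.exists_prime_of_not_two e
      have h4 := mT.mp (pow_mem hy m)
      exact ne_one_of_orderOf_eq_prime h2 rfl (h.star hx x1 h4.2
        ((Nat.coprime_primes h2 Nat.prime_two).mpr h3) h4.1.symm))
    fun e => h.z1 (mem_bot.mp (e ▸ mT.mpr ⟨xz.symm, h.uz.symm⟩))
  have h3 := (h1 c (mT.mp hc).1 (mT.mp hc).2 (h2 z (mT.mpr ⟨xz.symm, h.uz.symm⟩)).symm).resolve_left c1
  exact h1 g hg hu (h3 ▸ h2 g (mT.mpr ⟨hg, hu⟩))

theorem cent {x m : G} (hx : x ∈ h.npc.compl) (x1 : x ≠ 1) (hm : Commute m x) : Commute m z := by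
  have xz := (h.memK.mp hx).1
  have h1 : ∀ g, Commute g x → Commute (u * g * u⁻¹) x := fun g hg => by
    simpa [h.uK hx] using (M11.commute_conj u hg).inv_right
  have h2 : ∀ t, Commute t x → t * t = 1 → Commute t z := fun t ht tt =>
    commute_of_outer (M := centralizer {x}) (mem_normalizer_of_conj_mem fun g hg =>
      mem_centralizer_singleton_iff.mpr (h1 g (mem_centralizer_singleton_iff.mp hg)))
      (fun e => x1 (h.fpf hx (mem_centralizer_singleton_iff.mp e).symm)) h.uu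
      (fun g hg => h.hC hx x1 (mem_centralizer_singleton_iff.mp hg))
      (le_normalizer (mem_centralizer_singleton_iff.mpr (h.sK hx))) (h.su.trans h.uz.eq.symm) (h.az _)
      (mem_centralizer_singleton_iff.mpr ht) tt
  obtain ⟨w, hw⟩ : ∃ w, w = m * z * m⁻¹ := ⟨_, rfl⟩
  have ww : w * w = 1 := hw ▸ CIT.conj_sq h.zz
  have wx : Commute w x := hw ▸ (hm.mul_left xz.symm).mul_left hm.inv_left
  have h3 : Commute w (u * w * u⁻¹) := by
    have h3 := M11.commute_conj (u * m * u⁻¹) (h2 _ (((h1 m hm).inv_left.mul_left wx).mul_left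
      (h1 m hm).inv_left.inv_left) (CIT.conj_sq ww))
    rwa [show u * m * u⁻¹ * z * (u * m * u⁻¹)⁻¹ = u * (m * (u⁻¹ * z * u) * m⁻¹) * u⁻¹ by group,
      h.uz.inv_left.eq, inv_mul_cancel_right, ← hw,
      show ∀ g : G, g * (g⁻¹ * w * g⁻¹⁻¹) * g⁻¹ = w from fun g => by group] at h3
  rcases h.hC hx x1 (wx.mul_left (h1 w wx)) (show _ * u = u * _ by
    rw [h3.eq]; nth_rewrite 2 [← h3.eq]; simp only [h.ui, mul_assoc]) with e | e
  · rw [mul_eq_one_iff_inv_eq, inv_eq_of_mul_eq_one_right ww, eq_mul_inv_iff_mul_eq] at e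
    exact mul_inv_eq_iff_eq_mul.mp (hw.symm.trans ((h.hC hx x1 wx e).resolve_left
      (hw ▸ CIT.conj_ne_one h.z1)))
  · exfalso
    have h4 : w * u * w⁻¹ = z * u := by rw [← e, inv_eq_of_mul_eq_one_right ww]; group
    rcases h.hC hx x1 ((h.sK hx).inv_left.mul_left wx) (mul_inv_eq_iff_eq_mul.mp (by
      rw [show ∀ s, s⁻¹ * w * u * (s⁻¹ * w)⁻¹ = s⁻¹ * (w * u * w⁻¹) * s from fun s => by group, h4, ← h.su]
      group)) with e | e <;> rw [inv_mul_eq_iff_eq_mul] at e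
    · rw [e, mul_one, h.ss] at ww
      exact h.z1 ww
    · rw [e, mul_assoc, ← mul_assoc z, ← (h.az _).eq, mul_assoc, h.zz, mul_one, h.ss] at ww
      exact h.z1 ww

theorem one {t : G} (t1 : t ≠ 1) (tt : t * t = 1) : IsConj z t :=
  h.hz ▸ one_class (index_ne_two fun e => by
    have h1 := orderOf_dvd_natCard a
    rw [h.ord, e] at h1
    exact absurd ((Nat.pow_dvd_pow_iff_le_right one_lt_two).mp (show _ ∣ 2 ^ 1 from h1)) (by omega))
    h.ord h.uN h.uu h.nb h.syl t1 tt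

theorem aK {k : G} (hk : k ∈ h.npc.compl) : Commute a k := by
  have az : Commute a z := pow_one a ▸ h.az 1
  have h1 : a * u * (a * u) = 1 := by
    rw [show a * u * (a * u) = a * (u * a * u⁻¹) * (u * u) by group, h.ua, h.uu]; simp
  obtain ⟨g, hg⟩ := isConj_iff.mp (h.one (fun e => h.nb (by
    rw [eq_inv_of_mul_eq_one_right e]; exact inv_mem (mem_zpowers a))) h1)
  have h2 := inverts_of_fpf (h.npc.le_normalizer (mem_centralizer_singleton_iff.mpr (az.mul_left h.uz)))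
    h1 (fun k hk hc => by_contra fun k1 => by
      have h2 := M11.commute_conj g (h.cent (x := g⁻¹ * k * g⁻¹⁻¹) (h.memK.mpr ⟨by
        simpa [← hg, mul_assoc] using M11.commute_conj g⁻¹ hc, orderOf_conj' g⁻¹ k ▸ (h.memK.mp hk).2⟩)
        (CIT.conj_ne_one k1) (M11.commute_conj g⁻¹ (h.sK hk)))
      rw [hg, show ∀ s : G, g * (g⁻¹ * s * g⁻¹⁻¹) * g⁻¹ = s from fun s => by group] at h2
      exact h.nc (by simpa using (Commute.pow_self a _).inv_right.mul_right h2)) (inv_mem hk)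
  rw [show a * u * k⁻¹ * (a * u)⁻¹ = a * (u * k⁻¹ * u⁻¹) * a⁻¹ by group, h.uK (inv_mem hk), inv_inv] at h2
  exact mul_inv_eq_iff_eq_mul.mp h2

theorem hyp : BSW.Hyp (h.npc.compl ⊔ zpowers a) z u := by
  have : Fact (Nat.Prime 2) := ⟨Nat.prime_two⟩
  have mL : ∀ x ∈ h.npc.compl ⊔ zpowers a, ∃ k ∈ h.npc.compl, ∃ j : ℕ, k * a ^ j = x := fun x hx => by
    obtain ⟨k, hk, b, hb, rfl⟩ := (mem_sup_of_right_le_normalizer ((le_sup_left.trans h.le_C).trans
      h.npc.le_normalizer)).mp hx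
    obtain ⟨j, rfl⟩ := mem_powers_iff_mem_zpowers.mpr hb
    exact ⟨k, hk, j, rfl⟩
  have inv : ∀ x ∈ h.npc.compl ⊔ zpowers a, u * x * u⁻¹ = x⁻¹ := fun x hx => by
    obtain ⟨k, hk, j, rfl⟩ := mL x hx
    rw [← conj_mul, h.uK hk, h.conj, ← mul_inv_rev, ((h.aK hk).pow_left j).eq]
  have comm := Char.comm_of_inverts inv
  have ma : a ∈ h.npc.compl ⊔ zpowers a := mem_sup_right (mem_zpowers a)
  have nb : u ∉ h.npc.compl ⊔ zpowers a := fun e => h.nc (comm _ (pow_mem ma _) _ e)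
  have uniq : ∀ x ∈ h.npc.compl ⊔ zpowers a, x ≠ 1 → x * x = 1 → x = z := fun x hx x1 xx => by
    obtain ⟨k, hk, j, rfl⟩ := mL x hx
    have h1 := xx
    rw [← sq, ((h.aK hk).pow_left j).symm.mul_pow, mul_eq_one_iff_eq_inv] at h1
    have h2 := eq_one_of_mem_isPGroup_of_coprime h.sylow.isPGroup (mem_sup_left (h1 ▸ inv_mem
      (pow_mem (pow_mem (mem_zpowers a) j) 2))) (h.memK.mp (pow_mem hk 2)).2
    obtain rfl := Block.eq_one_of_mul_self_of_odd (sq k ▸ h2) (h.memK.mp hk).2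
    rw [one_mul] at *
    exact h.hz ▸ CIT.eq_of_sq_eq_one h.ord (pow_mem (mem_zpowers a) j) x1 xx
  have mC : ∀ g, Commute g z → g ∈ h.npc.compl ⊔ zpowers a ∨ g * u ∈ h.npc.compl ⊔ zpowers a := by
    intro g hg
    have h1 := mem_centralizer_singleton_iff.mpr hg
    rw [← h.npc.sup_compl (h.sylow.of_le h.le_C le_top), sup_comm, ← sup_assoc] at h1
    simpa [h.ui] using mem_sup2 (mem_normalizer_of_conj_mem fun x hx => inv x hx ▸ inv_mem hx)
      (h.uu ▸ one_mem _) h1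
  refine ⟨⟨⟨fun x y => Subtype.ext (comm _ x.2 _ y.2)⟩⟩, mem_sup_right (h.hz ▸ pow_mem (mem_zpowers a) _),
    h.z1, h.zz, uniq, nb, h.uu,
    inv, fun x hx x1 g hg => mC g ?_, fun t => h.one, ?_⟩
  · have key : g⁻¹ * z * g ∈ h.npc.compl ⊔ zpowers a → Commute g z := fun e => by
      have h1 := uniq _ e (CIT.inv_conj_ne_one h.z1) (by simpa using CIT.conj_sq (g := g⁻¹) h.zz)
      rw [mul_assoc, inv_mul_eq_iff_eq_mul] at h1
      exact h1.symm
    rcases Nat.even_or_odd (orderOf x) with e | e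
    · obtain ⟨_, ⟨i, rfl⟩, s1, ss⟩ := BSW.exists_inv e
      refine key ?_
      conv => enter [2]; rw [← uniq _ (zpow_mem hx i) s1 ss]
      convert zpow_mem hg i using 1
      simpa using (conj_zpow (i := i) (a := g⁻¹) (b := x)).symm
    have LC : h.npc.compl ⊔ zpowers a ≤ centralizer {z} :=
      sup_le h.npc.compl_le (le_sup_left.trans h.le_C)
    have h1 : g⁻¹ * x * g ∈ h.npc.compl := ⟨LC hg, by
      have h1 := orderOf_conj' g⁻¹ x
      rw [inv_inv] at h1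
      exact h1 ▸ e.coprime_two_right⟩
    have h2 : x ∈ h.npc.compl := ⟨LC hx, e.coprime_two_right⟩
    refine key ((mC _ (h.cent h1 (CIT.inv_conj_ne_one x1) (by
      simpa using M11.commute_conj g⁻¹ (h.memK.mp h2).1.symm))).resolve_right fun e => h.nc ?_)
    have h3 := M11.commute_conj g⁻¹ (h.cent h2 x1 (m := g * a ^ 2 ^ (n + 1) * g⁻¹) (by
      simpa [mul_assoc] using M11.commute_conj g (h.sK h1)))
    simp only [mul_assoc, inv_mul_cancel_left, inv_inv, inv_mul_cancel, mul_one] at h3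
    simpa [mul_assoc] using h3.inv_right.mul_right (comm _ (pow_mem ma _) _ e)
  · have h1 := card_le_of_le (le_sup_right : zpowers a ≤ h.npc.compl ⊔ zpowers a)
    rw [Nat.card_zpowers, h.ord, pow_add] at h1
    have := Nat.one_le_two_pow (n := n)
    omega

theorem main : ∃ p : ℕ, p.Prime ∧ (p % 16 = 1 ∨ p % 16 = 15) ∧
    Nonempty (G ≃* Matrix.ProjectiveSpecialLinearGroup (Fin 2) (ZMod p)) := by
  have := Fintype.ofFinite G
  obtain ⟨p, m, hp, h1, -, -, h2⟩ := h.hyp.psl2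
  have h3 := card_dvd_of_le (le_sup_right : zpowers a ≤ h.npc.compl ⊔ zpowers a)
  rw [Nat.card_zpowers, h.ord, pow_add] at h3
  obtain ⟨c, h3⟩ := (Dvd.intro_left _ rfl).trans h3
  have h4 : 0 < c := Nat.pos_of_ne_zero (by rintro rfl; exact Nat.card_pos.ne' h3)
  rw [h3] at h1
  have hm : m ≠ 0 := by rintro rfl; norm_num at h1; omega
  have := Fact.mk hp
  have := Fintype.ofFinite (GaloisField p m)
  have h5 : Fintype.card (GaloisField p m) = p ^ m := by
    rw [← Nat.card_eq_fintype_card, GaloisField.card p m hm]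
  obtain ⟨e⟩ := h2 _ h5
  have p2 : p ≠ 2 := by rintro rfl; have := dvd_pow_self 2 hm; omega
  have c2 : (2 : GaloisField p m) ≠ 0 := fun e => p2 ((Nat.prime_dvd_prime_iff_eq hp Nat.prime_two).mp
    ((CharP.cast_eq_zero_iff (GaloisField p m) p 2).mp (by exact_mod_cast e)))
  have key : ∀ k : ℕ, ∀ α β γ : GaloisField p m, α ^ p ^ k = α → β ^ p ^ k = β → γ ^ p ^ k = γ → α ≠ 0 →
      β ≠ 0 → γ ≠ 0 → α ^ 2 + β ^ 2 + γ ^ 2 = 1 → p ^ m - 1 ∣ p ^ k - 1 := by
    intro k α β γ a1 a2 a3 a4 a5 a6 a7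
    rw [← h5, ← FiniteField.forall_pow_eq_one_iff]
    intro x
    have h6 := psl2_max c2 e (u := u) h.z1
      (fun e => h.nb (e ▸ one_mem _))
      (fun e => h.nb (eq_inv_of_mul_eq_one_right e ▸ h.hz ▸ inv_mem (pow_mem (mem_zpowers a) _)))
      h.zz h.uu h.uz h.co (fun _ => h.conjV) ((iterateFrobenius (GaloisField p m) p k).eqLocus (RingHom.id _))
      a1 a2 a3 a4 a5 a6 a7 x
    rw [← mul_left_inj x, ← pow_succ, Nat.sub_add_cancel (Nat.one_le_pow _ _ hp.pos), one_mul]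
    exact Units.ext (by rw [Units.val_pow_eq_pow_val]; exact h6)
  by_cases p3 : p = 3
  · exfalso
    subst p3
    have h6 : ∀ m, 3 ^ m % 8 = 1 ∨ 3 ^ m % 8 = 3 := fun m => by
      induction m with
      | zero => simp
      | succ m ih => rw [pow_succ, Nat.mul_mod]; rcases ih with e | e <;> simp [e]
    have h7 := h6 m
    obtain ⟨θ, hθ⟩ := FiniteField.isSquare_neg_one_iff.mpr (show Fintype.card (GaloisField 3 m) % 4 ≠ 3 by omega)
    have c3 : (3 : GaloisField 3 m) = 0 := by exact_mod_cast CharP.cast_eq_zero (GaloisField 3 m) 3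
    have := Nat.le_of_dvd (by norm_num) (key 2 1 1 θ (one_pow _) (one_pow _)
      (by linear_combination (θ - θ ^ 3 + θ ^ 5 - θ ^ 7) * hθ) one_ne_zero one_ne_zero
      (by rintro rfl; simp at hθ) (by linear_combination -hθ))
    omega
  have c3 : (3 : GaloisField p m) ≠ 0 := fun e => p3 ((Nat.prime_dvd_prime_iff_eq hp Nat.prime_three).mp
    ((CharP.cast_eq_zero_iff (GaloisField p m) p 3).mp (by exact_mod_cast e)))
  have fx : ∀ j : ℕ, ((j : GaloisField p m) / 3) ^ p ^ 1 = j / 3 := fun j => by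
    have := map_div₀ (frobenius (GaloisField p m) p) (j : GaloisField p m) (3 : ℕ)
    rw [map_natCast, map_natCast, frobenius_def, Nat.cast_ofNat] at this
    rwa [pow_one]
  have h6 := Nat.le_of_dvd (by have := hp.two_le; rw [pow_one]; omega) (key 1 _ _ _ (fx 1) (fx 2) (fx 2)
    (by simpa using c3) (by simp [c2, c3]) (by simp [c2, c3]) (by field_simp; norm_num))
  have h7 : p ^ m = p := le_antisymm (by have := hp.two_le; rw [pow_one] at h6; omega) (Nat.le_self_pow hm p)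
  exact ⟨p, hp, by omega, h2 _ (by rw [ZMod.card, h7])⟩

end DH

end Cfsg.Agent.Wong
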