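import Cfsg.Agent.Wong.Suz
import Cfsg.Agent.S3331
import Cfsg.Agent.Perm2.Sims3
import Cfsg.Agent.BSW.Order
import Cfsg.Agent.PSL2Rec.PrimeDeg

/-!
# Primitive groups with a suborbit of length three: small point stabilisers
-/

set_option autoImplicit false
set_option linter.unusedSectionVars false

namespace Cfsg.Agent.Wong

open Subgroup Cfsg.Agent.Local Cfsg.Agent.Char MulAction
open scoped Pointwise

variable {G : Type*} [Group G] [Finite G]

/-- A soluble core-free maximal subgroup of an insoluble group, with Sylow `2`-subgroups whose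
normalisers are not contained in it. -/
structure Prim (H : Subgroup G) : Prop where
  co : IsCoatom H
  core : ∀ N : Subgroup G, N.Normal → N ≤ H → N = ⊥
  ns : ¬ Group.IsSolvable G
  sol : Group.IsSolvable H
  tl : ∀ P, IsSylowIn 2 P H → ∃ t ∈ normalizer (P : Set G), t ∉ H

theorem prim_of {Ω : Type*} [MulAction G Ω] [FaithfulSMul G Ω] (hsol : ¬ Group.IsSolvable G)
    (hprim : IsPreprimitive G Ω) {a b : Ω} (h3 : Nat.card (orbit (stabilizer G a) b) = 3)
    (sol : Group.IsSolvable (stabilizer G a)) : Prim (stabilizer G a) := by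
  have : Fact (Nat.Prime 2) := ⟨Nat.prime_two⟩
  have := hprim.toIsPretransitive
  have h : Perm2.Sims.col G a b := by
    rw [Perm2.Sims.col, ← h3]; exact Perm2.card_inf_mul_card_suborbit a b
  have : Nontrivial Ω := ⟨a, b, h.ne⟩
  have key : ∀ p q : Ω, Perm2.Sims.col G p q → IsSylowIn 2 (Perm2.Sims.DD G p q) (stabilizer G p) :=
    fun p q h => ⟨inf_le_left, Perm2.Sims.isPGroup_DD hprim h, by
      rw [Nat.eq_of_mul_eq_mul_left Nat.card_pos ((card_mul_relIndex inf_le_left).trans (Eq.symm h))]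
      decide⟩
  refine ⟨Perm2.isCoatom_stab hprim a, fun N hN hle => Perm2.eq_bot_of_normal_of_le_stabilizer hN hle,
    hsol, sol, fun P hP => ?_⟩
  obtain ⟨g, hg, rfl⟩ := (key a b h).exists_conj hP
  have h1 := h.smul' hg
  rw [conj_smul_eq_map, ← Perm2.Sims.DD_smul, show g • a = a from hg]
  generalize g • b = c at h1
  obtain ⟨k, rfl⟩ := exists_smul_eq G a c
  have h2 := (key _ _ h1).conj_smul k
  rw [conj_smul_eq_map k (stabilizer G a), ← stabilizer_smul_eq_stabilizer_map_conj] at h2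
  obtain ⟨n, hn, e⟩ := h2.exists_conj (key _ _ h1.symm)
  rw [conj_smul_conj_smul, Perm2.Sims.DD_comm (k • a)] at e
  refine ⟨n * k, mem_normalizer_iff_conj_smul_eq.mpr e, fun e' => h1.ne ?_⟩
  rw [mem_stabilizer_iff, mul_smul, show n • k • a = k • a from hn] at e'
  exact e'.symm

namespace Prim

variable {H : Subgroup G} (d : Prim H)
include d

theorem F0 {N : Subgroup G} (hN : N.Normal) (hs : Group.IsSolvable N) : N = ⊥ := by
  by_contra hne
  have h1 : N ⊔ H = ⊤ := d.co.2 _ (right_lt_sup.mpr fun e => hne (d.core N hN e))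
  have := d.sol
  have h2 : Group.IsSolvable (G ⧸ N) := Group.isSolvable_of_surjective
    (f := (QuotientGroup.mk' N).comp H.subtype) fun q => by
      obtain ⟨g, rfl⟩ := QuotientGroup.mk'_surjective N q
      obtain ⟨n, hn, h, hh, rfl⟩ := (mem_sup_of_right_le_normalizer (le_normalizer_of_normal' H N)).mp
        (h1.ge (mem_top g))
      exact ⟨⟨h, hh⟩, by simp [(QuotientGroup.eq_one_iff n).mpr hn]⟩
  exact d.ns (Group.isSolvable_of_ker_le_range N.subtype (QuotientGroup.mk' N) (by simp))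

theorem F0' {N : Subgroup G} (hN : N.Normal) {p : ℕ} (hp : p.Prime) (hs : IsPGroup p N) : N = ⊥ := by
  have := Fact.mk hp
  have := hs.isNilpotent
  exact d.F0 hN inferInstance

theorem top_of {M : Subgroup G} (h : H ≤ M) {g : G} (hg : g ∈ M) (hg' : g ∉ H) : M = ⊤ :=
  d.co.2 _ (lt_of_le_of_ne h fun e => hg' (e ▸ hg))

theorem F1 {X : Subgroup G} (h1 : X ≠ ⊥) (hs : Group.IsSolvable X) (h3 : H ≤ normalizer (X : Set G)) :
    normalizer (X : Set G) = H := by
  by_contra h
  exact h1 (d.F0 (normalizer_eq_top_iff.mp (d.co.2 _ (lt_of_le_of_ne h3 (Ne.symm h)))) hs)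

theorem cent {g : G} (h : ∀ x, x * g = g * x) : g = 1 := by
  have h1 := d.F0 (N := center G) inferInstance
    (Group.isSolvable_of_comm fun a b => Subtype.ext (mem_center_iff.mp b.2 a))
  exact mem_bot.mp (h1 ▸ mem_center_iff.mpr h)

theorem norm_zp {x : G} (h1 : x ≠ 1) (h : ∀ g ∈ H, g * x * g⁻¹ ∈ zpowers x) {g : G}
    (hg : g * x * g⁻¹ ∈ zpowers x) : g ∈ H := by
  rw [← d.F1 (X := zpowers x) (by simpa using h1) inferInstance fun g hg =>
    norm_zpowers (h g hg) (mem_zpowers g)]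
  exact norm_zpowers hg (mem_zpowers g)

theorem sct {N : Subgroup G} (hN : N.Normal) {x : N} (h : SCT x) :
    IsSimpleGroup N ∧ (Nat.card N = 60 ∨ (Nat.card N = 168 ∧ ∃ K, Inv3 x K ∧ 2 ∣ Nat.card K)) := by
  have h1 : ¬ Group.IsSolvable N := fun hs => h.ne_one (Subtype.ext (mem_bot.mp (d.F0 hN hs ▸ x.2)))
  have h2 : Inv3 x (Cfsg.pPrimeCore 3 N) := ⟨le_normalizer_of_normal' ⊤ _ (mem_top x),
    (Nat.Prime.coprime_iff_not_dvd Nat.prime_three).mp (coprime_card_pPrimeCore 3).symm⟩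
  have h3 := h2.isNilpotent h
  have h4 := d.F0 (N := (Cfsg.pPrimeCore 3 N).map N.subtype) inferInstance
    (Group.isSolvable_of_surjective (N.subtype.subgroupMap_surjective _))
  rw [map_eq_bot_iff_of_injective _ N.subtype_injective] at h4
  have h5 : 6 < Nat.card N := by
    by_contra h5
    have h6 := h.ord ▸ orderOf_dvd_natCard x
    have : 0 < Nat.card N := Nat.card_pos
    exact h1 (Pres.solvable_of_card_dvd_120 (by
      rcases (by omega : Nat.card N = 3 ∨ Nat.card N = 6) with e | e <;> rw [e] <;> decide)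
      (by omega) (by omega))
  have := S3331.simple h h4 h5
  exact ⟨this, (h.simple_card h5).imp_right fun ⟨e, K, _, hK, _, h2, _⟩ => ⟨e, K, hK, h2⟩⟩

theorem case3 {x : G} (hx : orderOf x = 3) (h1 : ∀ g ∈ H, g ∈ zpowers x ∨ g * x * g⁻¹ = x⁻¹)
    (h6 : Nat.card H ∣ 6) : Nonempty (G ≃* alternatingGroup (Fin 5)) := by
  have : Fact (Nat.Prime 2) := ⟨Nat.prime_two⟩
  have x1 := ne_one_of_orderOf_eq_prime Nat.prime_three hx
  have h2 : ∀ g ∈ H, g * x * g⁻¹ ∈ zpowers x := fun g hg => (h1 g hg).elim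
    (fun e => mul_mem (mul_mem e (mem_zpowers x)) (inv_mem e)) fun e => e ▸ inv_mem (mem_zpowers x)
  have h : SCT x := ⟨hx, fun g hg => (h1 g (d.norm_zp x1 h2 (by simp [hg]))).resolve_right fun e => by
    rw [hg, mul_inv_cancel_right, eq_inv_iff_mul_eq_one, ← sq, ← orderOf_dvd_iff_pow_eq_one, hx] at e
    omega⟩
  obtain ⟨-, h3 | ⟨h3, K, hK, h4⟩⟩ := d.sct (N := ⊤) inferInstance (h.subtype (mem_top x))
  · exact Pres.equiv_alt5_of_card_60 (card_top.symm.trans h3) d.ns
  exfalso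
  have h5 : Inv3 x (K.map (⊤ : Subgroup G).subtype) := ⟨le_normalizer_map _ ⟨_, hK.norm, rfl⟩, by
    rw [card_map_of_injective (subtype_injective _)]; exact hK.ndvd⟩
  rw [← card_map_of_injective (subtype_injective _)] at h4
  obtain ⟨M, hKM, hM⟩ := Finite.exists_le_maximal h5
  have h7 := h4.trans (card_dvd_of_le hKM)
  have h8 := hM.prop.modEq h
  rcases h.relIndex_max hM with e | e
  · obtain ⟨T, hT⟩ := exists_isSylowIn 2 M
    have h9 := (h.isSylowIn_top hM hT (hT.ne_bot h7) (by rw [e]; decide)).card_eq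
    have h10 := (hM.prop.sylow h hT).modEq h
    rw [h3, show 168 = 2 ^ 3 * 21 by norm_num, factorization_pow_mul (by norm_num) (by norm_num)] at h9
    omega
  · have h9 := hM.prop.isNilpotent h
    have h10 := d.F1 (X := M) (by rintro rfl; simp at h7) inferInstance fun g hg => (h1 g hg).elim
      (fun e => zpowers_le.mpr hM.prop.norm e) (h.mem_normalizer_max hM e)
    have h11 := (card_dvd_of_le (h10 ▸ le_normalizer : M ≤ H)).trans h6
    have := Nat.le_of_dvd (by norm_num) h11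
    generalize Nat.card M = m at *
    interval_cases m <;> omega

end Prim

theorem pgl_of {p : ℕ} [Fact p.Prime] (hp : p = 5 ∨ p = 7) {G0 : Subgroup G} (h2 : G0.index = 2)
    [IsSimpleGroup G0] (hZ : ∀ g : G, (∀ x, x * g = g * x) → g = 1)
    (hG : Nat.card G = p * (p - 1) * (p + 1)) :
    Nonempty (G ≃* GL (Fin 2) (ZMod p) ⧸ center (GL (Fin 2) (ZMod p))) := by
  have := normal_of_index_eq_two h2
  have h1 : ∀ N : Subgroup G, N.Normal → N = ⊥ ∨ G0 ≤ N := fun N hN =>
    (IsSimpleGroup.eq_bot_or_eq_top_of_normal (N.subgroupOf G0) inferInstance).imp (fun e =>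
      eq_bot_iff.mpr fun n hn => hZ n fun x => by
        have h3 : x * n * x⁻¹ * n⁻¹ ∈ G0 := by
          simp only [mul_mem_iff_of_index_two h2, inv_mem_iff]; tauto
        have h4 : (⟨_, h3⟩ : G0) ∈ N.subgroupOf G0 := mul_mem (hN.conj_mem n hn x) (inv_mem hn)
        rw [e, mem_bot, Subtype.ext_iff] at h4
        exact mul_inv_eq_iff_eq_mul.mp (mul_inv_eq_one.mp h4)) subgroupOf_eq_top.mp
  obtain ⟨P⟩ : Nonempty (Sylow p G) := inferInstance
  have hP : Nat.card (P : Subgroup G) = p ^ 1 :=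
    PSL2Rec.card_sylow_eq one_ne_zero (t := p - 1) (by simp) (by simpa using hG) P
  have h3 := G0.card_mul_index
  rw [h2, hG] at h3
  rw [pow_one] at hP
  have h4 : ¬ (P : Subgroup G).Normal := fun hN => (h1 _ hN).elim
    (fun e => by rw [e, card_bot] at hP; omega) fun e => by
      have := card_le_of_le e
      rcases hp with rfl | rfl <;> omega
  have h5 : Nat.card (Sylow p G) = p + 1 := by
    refine (PSL2Rec.eq_one_or_eq_succ (by omega) ((Nat.modEq_iff_dvd' Nat.card_pos).mp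
      (card_sylow_modEq_one p G).symm) ?_).resolve_left fun e => ?_
    · have h5 := (P : Subgroup G).card_mul_index
      rw [hP, hG, mul_assoc] at h5
      exact Nat.eq_of_mul_eq_mul_left (by omega) h5 ▸ P.card_dvd_index
    · have := (Nat.card_eq_one_iff_unique.mp e).1
      exact h4 P.normal_of_subsingleton
  have h6 : (toPermHom G (Sylow p G)).ker = ⊥ := (h1 _ inferInstance).resolve_right fun e => by
    have h6 := (normalizer (P : Set G)).card_mul_index
    have h7 := card_dvd_of_le (show G0 ≤ normalizer (P : Set G) from fun g hg =>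
      Sylow.smul_eq_iff_mem_normalizer.mp (DFunLike.congr_fun (MonoidHom.mem_ker.mp (e hg)) P))
    rw [← P.card_eq_index_normalizer, h5] at h6
    have := Nat.le_of_dvd Nat.card_pos h7
    rcases hp with rfl | rfl <;> omega
  have : FaithfulSMul G (Sylow p G) := ⟨fun {g g'} e =>
    (MonoidHom.ker_eq_bot_iff _).mp h6 (Equiv.ext e)⟩
  obtain ⟨g, hg⟩ : ∃ g : G, g • P ≠ P := by
    by_contra h
    push Not at h
    exact h4 (normal_of_forall_mem_normalizer fun g => Sylow.smul_eq_iff_mem_normalizer.mp (h g))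
  obtain ⟨b, w, hZ, h7, h8⟩ := PSL2Rec.exists_zdata_of_prime h5 P.2
    (by intro e; rw [e, card_bot] at hP; omega) (fun x hx => PSL2Rec.smul_self_of_mem hx)
    (fun g hg x hx => conj_mem_of_mem_normalizer (Sylow.smul_eq_iff_mem_normalizer.mp hg) hx) hg
  have h9 := hZ.card_eq
  rw [h7, hG] at h9
  have h10 : Nat.card ↥(stabilizer G P ⊓ stabilizer G b) = p - 1 := by
    rcases hp with rfl | rfl <;> omega
  rcases hZ.recognition_of_even (F := ZMod p) (by rw [ZMod.card, h7]) (by rw [ZMod.card]; omega) h8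
    (by rcases hp with rfl | rfl <;> rw [h10] <;> decide) with e | e
  · exact e.1
  · have := e.2
    rw [h10, ZMod.card] at this
    rcases hp with rfl | rfl <;> simp at this

theorem odd_index {S : Subgroup G} (hS : IsSylowIn 2 S ⊤) : Odd S.index := by
  have := hS.not_dvd
  rwa [relIndex_top_right, ← even_iff_two_dvd, Nat.not_even_iff_odd] at this

theorem exists_central {S : Subgroup G} (hS : IsPGroup 2 S) (h : S ≠ ⊥) :
    ∃ z ∈ S, z ≠ 1 ∧ z * z = 1 ∧ ∀ x ∈ S, Commute x z := by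
  have : Fact (Nat.Prime 2) := ⟨Nat.prime_two⟩
  have : Nontrivial S := (nontrivial_iff_ne_bot _).mpr h
  obtain ⟨c, -, hc1, hc2⟩ := LinP.exists_central_of_normal hS ⊤ top_ne_bot
  exact ⟨c, c.2, fun e => ne_one_of_orderOf_eq_prime Nat.prime_two hc1 (Subtype.ext e), by
    rw [← sq]; exact congrArg Subtype.val (orderOf_dvd_iff_pow_eq_one.mp hc1.dvd),
    fun x hx => congrArg Subtype.val (mem_center_iff.mp hc2 ⟨x, hx⟩)⟩

theorem mem_of_odd {M : Subgroup G} (h : M.index = 2) {x : G} (hx : Odd (orderOf x)) : x ∈ M := by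
  obtain ⟨k, hk⟩ := hx
  have h1 : x ^ (2 * (k + 1)) = x := by rw [show 2 * (k + 1) = orderOf x + 1 by omega, pow_succ]; simp
  rw [← h1, pow_mul]
  exact pow_mem (sq_mem_of_index_two h x) _

open DihedralGroup in
theorem Prim.d12 {H : Subgroup G} (d : Prim H) (e : H ≃* DihedralGroup 6) :
    Nonempty (G ≃* Equiv.Perm (Fin 5)) ∨ Nonempty (G ≃* GL (Fin 2) (ZMod 7) ⧸ center (GL (Fin 2) (ZMod 7))) ∨
      Nonempty (G ≃* Matrix.ProjectiveSpecialLinearGroup (Fin 2) (ZMod 11)) ∨
      Nonempty (G ≃* Matrix.ProjectiveSpecialLinearGroup (Fin 2) (ZMod 13)) := by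
  have : Fact (Nat.Prime 2) := ⟨Nat.prime_two⟩
  obtain ⟨φ, inj, mH⟩ : ∃ φ : DihedralGroup 6 →* G, Function.Injective φ ∧ ∀ g, g ∈ H ↔ ∃ a, φ a = g :=
    ⟨H.subtype.comp e.symm, H.subtype_injective.comp e.symm.injective, fun g =>
      ⟨fun hg => ⟨e ⟨g, hg⟩, by simp⟩, by rintro ⟨a, rfl⟩; exact (e.symm a).2⟩⟩
  have cH : Nat.card H = 12 := by rw [Nat.card_congr e.toEquiv, nat_card]
  have mK : ∀ g, g ∈ zpowers (φ (r 1)) ↔ ∃ i, φ (r i) = g := fun g =>
    ⟨by rintro ⟨i, rfl⟩; exact ⟨i, by simp [← map_zpow]⟩, by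
      rintro ⟨i, rfl⟩; exact ⟨i.val, by simp only [zpow_natCast, ← map_pow]; simp⟩⟩
  have ne : ∀ {a b}, a ≠ b → φ a ≠ φ b := fun h => inj.ne h
  have y1 : φ (r 3) ≠ 1 := map_one φ ▸ ne (by decide)
  have yy : φ (r 3) * φ (r 3) = 1 := by rw [← map_mul, ← map_one φ]; rfl
  have cy : ∀ g, g ∈ H ↔ Commute g (φ (r 3)) := fun g => by
    have h1 : ∀ g ∈ H, Commute g (φ (r 3)) := fun g hg => by
      obtain ⟨a, rfl⟩ := (mH g).mp hg
      exact Commute.map ((by decide : ∀ a : DihedralGroup 6, a * r 3 = r 3 * a) a) φ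
    exact ⟨h1 g, fun h => d.norm_zp y1 (fun g hg => by simp [(h1 g hg).eq]) (by simp [h.eq])⟩
  have ox : orderOf (φ (r 2)) = 3 := (orderOf_injective φ inj _).trans (by
    rw [orderOf_r]; rfl)
  have nx : ∀ g, g * φ (r 2) * g⁻¹ ∈ zpowers (φ (r 2)) → g ∈ H := fun g =>
    d.norm_zp (map_one φ ▸ ne (by decide)) fun g hg => by
      obtain ⟨a, rfl⟩ := (mH g).mp hg
      rw [← map_inv, ← map_mul, ← map_mul]
      rcases (by decide : ∀ a : DihedralGroup 6, a * r 2 * a⁻¹ = r 2 ∨ a * r 2 * a⁻¹ = (r 2)⁻¹) a with e | e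
      · simp [e]
      · rw [e, map_inv]; exact inv_mem (mem_zpowers _)
  have sct : ∀ N : Subgroup G, (hx : φ (r 2) ∈ N) → φ (r 3) ∉ N → SCT (⟨_, hx⟩ : N) := fun N hx hy =>
    ⟨(orderOf_coe _).symm.trans ox, fun g hg => by
      have h1 : (g : G) * φ (r 2) = φ (r 2) * g := congrArg Subtype.val hg
      obtain ⟨a, ha⟩ := (mH g).mp (nx g (by simp [h1]))
      rw [← ha, ← map_mul, ← map_mul, inj.eq_iff] at h1
      rcases (by decide : ∀ a : DihedralGroup 6, a * r 2 = r 2 * a → (∃ i : Fin 3, a = r 2 ^ i.val) ∨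
        a ^ 3 = r 3) a h1 with ⟨i, e⟩ | e
      · exact ⟨i.val, Subtype.ext (by rw [← ha, e, map_pow]; simp)⟩
      · exact absurd (by rw [← e, map_pow, ha]; exact pow_mem g.2 3) hy⟩
  by_cases H2 : ∀ M : Subgroup G, M.index ≠ 2
  · obtain ⟨S, hS, hy⟩ := exists_isSylowIn_ge (N := ⊤) (CIT.two_of_sq yy).isPGroup le_top
    rw [zpowers_le] at hy
    by_cases hSH : S ≤ H
    · have h1 := (hS.of_le hSH le_top).card_eq
      rw [cH, show 12 = 2 ^ 2 * 3 by norm_num, factorization_pow_mul (by norm_num) (by norm_num)] at h1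
      have h2 := card_mul_relIndex (zpowers_le.mpr hy)
      rw [h1, Nat.card_zpowers, CIT.orderOf_eq_two y1 yy] at h2
      have := Fintype.ofFinite G
      have hyp : BSW.Hyp (zpowers (φ (r 1))) (φ (r 3)) (φ (sr 0)) := by
        refine ⟨inferInstance, (mK _).mpr ⟨_, rfl⟩, y1, yy, fun x hx => ?_, fun h => ?_,
          by rw [← map_mul, ← map_one φ]; rfl, fun x hx => ?_, fun x hx x1 g hg => ?_, fun t t1 tt => ?_, ?_⟩
        · obtain ⟨i, rfl⟩ := (mK x).mp hx
          rw [← map_mul, ← map_one φ, Ne, inj.eq_iff, inj.eq_iff, inj.eq_iff]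
          clear hx; revert i; decide
        · obtain ⟨i, h⟩ := (mK _).mp h
          exact absurd (inj h) (by simp)
        · obtain ⟨i, rfl⟩ := (mK x).mp hx
          rw [← map_inv, ← map_mul, ← map_mul, ← map_inv, inj.eq_iff]
          simp
        · obtain ⟨i, rfl⟩ := (mK x).mp hx
          obtain ⟨j, hj⟩ := (mK _).mp hg
          have h3 : g⁻¹ ∈ H := by
            rcases (by decide : ∀ i : ZMod 6, r i = (1 : DihedralGroup 6) ∨ i = 3 ∨ r i ^ 2 = r 2 ∨
              r i ^ 4 = r 2) i with e | rfl | e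
            · exact absurd (e ▸ map_one φ) x1
            · have h4 := CIT.conj_sq (g := g⁻¹) yy
              have h5 := CIT.conj_ne_one (g := g⁻¹) y1
              rw [inv_inv, ← hj] at h4 h5
              rw [← map_mul, ← map_one φ, inj.eq_iff] at h4
              obtain rfl := (by decide : ∀ j : ZMod 6, r j * r j = (1 : DihedralGroup 6) → r j = 1 ∨ j = 3)
                j h4 |>.resolve_left fun e => h5 (e ▸ map_one φ)
              rw [cy]
              exact mul_inv_eq_iff_eq_mul.mp (by rw [inv_inv]; exact hj.symm)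
            · obtain ⟨k, e⟩ : ∃ k, r i ^ (2 * k) = r 2 := e.elim (⟨1, ·⟩) (⟨2, ·⟩)
              refine nx _ ?_
              conv => enter [2]; rw [← e, map_pow, ← conj_pow, inv_inv, ← hj, ← map_pow, pow_mul]
              rw [map_pow, (by decide : ∀ j : ZMod 6, r j ^ 2 = (r 2 : DihedralGroup 6) ^ j.val), map_pow]
              exact pow_mem (pow_mem (mem_zpowers _) _) _
          obtain ⟨a, rfl⟩ := (mH g).mp (inv_mem_iff.mp h3)
          rcases a with a | a
          · exact Or.inl ((mK _).mpr ⟨a, rfl⟩)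
          · exact Or.inr ((mK _).mpr ⟨0 - a, map_mul φ (sr a) (sr 0)⟩)
        · obtain ⟨g, hg⟩ := CIT.thompson_transfer H2 (odd_index hS) (zpowers_le.mpr hy) (by omega) tt
          exact isConj_iff.mpr ⟨g, by
            rw [← (mem_zpowers_two yy hg).resolve_left (CIT.inv_conj_ne_one t1)]; group⟩
        · rw [Nat.card_zpowers, orderOf_injective φ inj, orderOf_r_one]; decide
      obtain ⟨p, m, -, h3, -, -, h4⟩ := hyp.psl2
      rw [Nat.card_zpowers, orderOf_injective φ inj, orderOf_r_one] at h3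
      have : Fact (Nat.Prime 11) := ⟨by norm_num⟩
      have : Fact (Nat.Prime 13) := ⟨by norm_num⟩
      rcases h3 with h3 | h3
      · exact Or.inr (Or.inr (Or.inr (h4 (ZMod 13) (by rw [ZMod.card, h3]))))
      · exact Or.inr (Or.inr (Or.inl (h4 (ZMod 11) (by rw [ZMod.card]; omega))))
    exfalso
    obtain ⟨x, hx, hxH⟩ := SetLike.not_le_iff_exists.mp hSH
    obtain ⟨z, hz, z1, zz, zc⟩ := exists_central hS.isPGroup fun e => y1 (mem_bot.mp (e ▸ hy))
    have yz : φ (r 3) ≠ z := fun e => hxH ((cy x).mpr (e ▸ zc x hx))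
    obtain ⟨n, a, h1, h2, h3, h4, h5⟩ := suzuki hS.isPGroup hy hz yy zz z1 y1 yz zc (fun w hw hc => by
      obtain ⟨w, rfl⟩ := (mH w).mp ((cy w).mpr hc)
      obtain ⟨z, rfl⟩ := (mH z).mp ((cy z).mpr (zc _ hy).symm)
      have h1 := (zc _ hw).eq
      simp only [← map_mul, ← map_one φ, Ne, inj.eq_iff] at h1 zz z1 yz ⊢
      exact (by decide : ∀ w z : DihedralGroup 6, w * z = z * w → z * z = 1 → ¬z = 1 → ¬r 3 = z →
        w = 1 ∨ w = r 3 ∨ w = z ∨ w = z * r 3) w z h1 zz z1 yz) ⟨x, hx, fun e => hxH ((cy x).mpr e)⟩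
    have h6 : φ (r 3) ∈ normalizer (zpowers a : Set G) := norm_zpowers (by
      rcases h5 with e | ⟨-, e⟩ <;> rw [e]
      · exact inv_mem (mem_zpowers a)
      · exact pow_mem (mem_zpowers a) _) (mem_zpowers _)
    obtain ⟨g, hg⟩ := CIT.thompson_transfer H2 (odd_index hS) (h4 ▸ le_sup_left)
      (h4 ▸ relIndex_sup2 h6 (yy ▸ one_mem _) h3) yy
    have h7 := (CIT.eq_of_sq_eq_one h1 hg (CIT.inv_conj_ne_one y1)
      (by simpa using CIT.conj_sq (g := g⁻¹) yy)).trans h2.symm
    have h8 := card_dvd_of_le (show MulAut.conj g • S ≤ H from fun w hw => (cy w).mpr (by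
      have h8 := zc _ (mem_conj_smul_iff.mp hw)
      rw [← h7] at h8
      simpa [mul_assoc] using h8.map (MulAut.conj g)))
    rw [card_conj_smul, cH, h4, card_sup2 h6 (yy ▸ one_mem _) h3, Nat.card_zpowers, h1] at h8
    rw [pow_add] at h8
    exact absurd ((show 8 ∣ _ from ⟨2 ^ n, by ring⟩).trans h8) (by decide)
  push Not at H2
  obtain ⟨M, hM⟩ := H2
  have := normal_of_index_eq_two hM
  have hx : φ (r 2) ∈ M := mem_of_odd hM (by rw [ox]; decide)
  by_cases hy : φ (r 3) ∈ M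
  · exfalso
    have h1 : ∀ i, φ (sr i) ∉ M := fun i hi => by
      have h1 : H ≤ M := fun g hg => by
        obtain ⟨a, rfl⟩ := (mH g).mp hg
        obtain ⟨j, k, l, rfl⟩ := (by decide : ∀ (i : ZMod 6) (a : DihedralGroup 6), ∃ (j k : Fin 2) (l : Fin 3),
          a = sr i ^ j.val * r 3 ^ k.val * r 2 ^ l.val) i a
        simp only [map_mul, map_pow]
        exact mul_mem (mul_mem (pow_mem hi _) (pow_mem hy _)) (pow_mem hx _)
      have h2 : M = H := by_contra fun e => by
        have := d.co.2 _ (lt_of_le_of_ne h1 (Ne.symm e))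
        simp [this] at hM
      exact y1 (mem_bot.mp (d.core M inferInstance h2.le ▸ hy))
    obtain ⟨S, hS, hyS⟩ := exists_isSylowIn_ge (CIT.two_of_sq yy).isPGroup (zpowers_le.mpr hy)
    have h2 : ∀ w ∈ S, Commute w (φ (r 3)) → w ∈ zpowers (φ (r 3)) := fun w hw hc => by
      obtain ⟨a | a, rfl⟩ := (mH w).mp ((cy w).mpr hc)
      · rcases (by decide : ∀ i : ZMod 6, r i = (1 : DihedralGroup 6) ∨ i = 3 ∨ r i ^ 2 = r 2 ∨
          r i ^ 4 = r 2) a with e | rfl | e
        · simp [e]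
        · exact mem_zpowers _
        · obtain ⟨k, e⟩ : ∃ k, r a ^ k = r 2 := e.elim (⟨_, ·⟩) (⟨_, ·⟩)
          exact absurd ((CIT.two_of_mem hS.isPGroup (e ▸ map_pow φ _ k ▸ pow_mem hw k)).eq_one
            (by rw [ox]; decide)) (map_one φ ▸ ne (by decide))
      · exact absurd (hS.le hw) (h1 a)
    obtain ⟨z, hz, z1, -, zc⟩ := exists_central hS.isPGroup fun e => y1 (mem_bot.mp (e ▸ hyS (mem_zpowers _)))
    obtain rfl := (mem_zpowers_two yy (h2 z hz (zc _ (hyS (mem_zpowers _))).symm)).resolve_left z1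
    obtain rfl : zpowers (φ (r 3)) = S := le_antisymm hyS fun w hw => h2 w hw (zc w hw)
    have h3 := Block.hasNPC_of_isCyclic hS inferInstance
    have h4 := (h3.coprime_card Nat.prime_two).symm
    have h5 := (d.sct (normal_of_forall_mem_normalizer fun g => h3.normalizer_le
      (le_normalizer_of_normal' ⊤ M (mem_top g))) (sct h3.compl ⟨hx, by rw [ox]; decide⟩ fun e => by
        have := e.2; rw [CIT.orderOf_eq_two y1 yy] at this; simp at this)).2
    rw [Nat.Prime.coprime_iff_not_dvd Nat.prime_two] at h4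
    omega
  obtain ⟨_, h1⟩ := d.sct this (sct M hx hy)
  have h2 := M.card_mul_index
  rw [hM] at h2
  rcases h1 with h1 | ⟨h1, -⟩
  · have : Fact (Nat.Prime 5) := ⟨by norm_num⟩
    obtain ⟨e1⟩ := pgl_of (p := 5) (Or.inl rfl) hM (fun g => d.cent) (by omega)
    obtain ⟨e2⟩ := pgl_of (p := 5) (Or.inl rfl) (G0 := alternatingGroup (Fin 5)) (alternatingGroup.index_eq_two)
      (fun g h => (by decide +kernel : ∀ g : Equiv.Perm (Fin 5), finRotate 5 * g = g * finRotate 5 →
        Equiv.swap 0 1 * g = g * Equiv.swap 0 1 → g = 1) g (h _) (h _)) (by simp [Fintype.card_perm, Nat.factorial])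
    exact Or.inl ⟨e1.trans e2.symm⟩
  · have : Fact (Nat.Prime 7) := ⟨by norm_num⟩
    exact Or.inr (Or.inl (pgl_of (p := 7) (Or.inr rfl) hM (fun g => d.cent) (by omega)))

end Cfsg.Agent.Wong
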