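import Cfsg.Agent.Wong.DH

/-!
# Primitive groups with a suborbit of length three: the point stabiliser `S₄`
-/

set_option autoImplicit false
set_option linter.unusedSectionVars false

namespace Cfsg.Agent.Wong

open Subgroup Cfsg.Agent.Local MulAction Equiv
open scoped Pointwise

variable {G : Type*} [Group G] [Finite G]

theorem exists_hom {H : Subgroup G} {A : Type*} [Group A] (e : H ≃* A) :
    ∃ φ : A →* G, Function.Injective φ ∧ ∀ g, g ∈ H ↔ ∃ a, φ a = g :=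
  ⟨H.subtype.comp e.symm, H.subtype_injective.comp e.symm.injective, fun g =>
    ⟨fun hg => ⟨e ⟨g, hg⟩, by simp⟩, by rintro ⟨a, rfl⟩; exact (e.symm a).2⟩⟩

theorem not_dvd_of_sylow {S : Subgroup G} (hS : IsSylowIn 2 S ⊤) {k : ℕ} (h : Nat.card S = 2 ^ k) :
    ¬ 2 ^ (k + 1) ∣ Nat.card G := fun e => hS.not_dvd (by
  rw [← S.card_mul_index, h, pow_succ] at e
  rw [relIndex_top_right]
  exact Nat.dvd_of_mul_dvd_mul_left (by positivity) e)

namespace Prim

variable {H : Subgroup G} (d : Prim H)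
include d

theorem exists_t {A : Type*} [Group A] {φ : A →* G} (mH : ∀ g, g ∈ H ↔ ∃ a, φ a = g)
    (inj : Function.Injective φ) {z : A} (h4 : ∀ p, p * z = z * p → p ^ 2 ^ 2 = 1)
    (h3 : ∀ q, q * z ≠ z * q → ∃ p, p * z = z * p ∧ (q * p) ^ 3 = 1) :
    IsPGroup 2 ↥(H ⊓ centralizer {φ z}) ∧
      ∃ t ∈ normalizer ((H ⊓ centralizer {φ z} : Subgroup G) : Set G), t ∉ H := by
  have : Fact (Nat.Prime 2) := ⟨Nat.prime_two⟩
  have mP : ∀ p, φ p ∈ H ⊓ centralizer {φ z} ↔ p * z = z * p := fun p => by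
    rw [mem_inf, mem_centralizer_singleton_iff, ← map_mul, ← map_mul, inj.eq_iff, mH]; simp
  have h1 : IsPGroup 2 ↥(H ⊓ centralizer {φ z}) := CIT.isPGroup_of_two fun g hg => by
    obtain ⟨p, rfl⟩ := (mH g).mp hg.1
    exact ⟨2, by rw [← map_pow, h4 p ((mP p).mp hg), map_one]⟩
  refine ⟨h1, d.tl _ (isSylowIn_of_maximal inf_le_left h1 fun Q hQ h1 h2 =>
    le_antisymm (fun g hg => by_contra fun e => ?_) h1)⟩
  obtain ⟨q, rfl⟩ := (mH g).mp (h2 hg)
  obtain ⟨p, h5, h6⟩ := h3 q (mt (mP q).mpr e)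
  have h7 := eq_one_of_mem_isPGroup_of_coprime hQ (mul_mem hg (h1 ((mP p).mpr h5)))
    (Nat.Coprime.coprime_dvd_left (orderOf_dvd_of_pow_eq_one (n := 3) (by
      rw [← map_mul, ← map_pow, h6, map_one])) (by decide))
  exact e (eq_inv_of_mul_eq_one_left h7 ▸ inv_mem ((mP p).mpr h5))

theorem eq_bot_of_odd {N : Subgroup G} (hN : N.Normal) (ho : ¬ 2 ∣ Nat.card N) {k : ℕ}
    (h1 : 2 ^ k ∣ Nat.card G) (h2 : ¬ 2 ^ k ∣ Nat.card H) : N = ⊥ := by
  by_contra hne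
  have h3 := card_sup_dvd (le_normalizer_of_normal' H N)
  rw [d.co.2 _ (right_lt_sup.mpr fun e => hne (d.core N hN e)), card_top] at h3
  exact h2 ((((Nat.Prime.coprime_iff_not_dvd Nat.prime_two).mpr ho).pow_left k).dvd_of_dvd_mul_left
    (h1.trans h3))

theorem four {z u : G} (z1 : z ≠ 1) (zz : z * z = 1) (uu : u * u = 1) (cu : Commute u z)
    (h : ∀ g ∈ H, ∀ v, v = z ∨ v = u → g * v * g⁻¹ = z ∨ g * v * g⁻¹ = u ∨ g * v * g⁻¹ = z * u) :
    normalizer ((zpowers z ⊔ zpowers u : Subgroup G) : Set G) = H := by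
  have : Fact (Nat.Prime 2) := ⟨Nat.prime_two⟩
  have := (IsPGroup.to_sup_of_normal_left' (CIT.two_of_sq zz).isPGroup (CIT.two_of_sq uu).isPGroup
    (norm_zpowers (by simp [cu.eq]))).isNilpotent
  have h1 : ∀ g ∈ H, ∀ v, v = z ∨ v = u → g * v * g⁻¹ ∈ zpowers z ⊔ zpowers u := fun g hg v hv => by
    rcases h g hg v hv with e | e | e <;> rw [e]
    · exact mem_sup_left (mem_zpowers _)
    · exact mem_sup_right (mem_zpowers _)
    · exact mul_mem_sup (mem_zpowers _) (mem_zpowers _)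
  exact d.F1 (fun e => z1 (mem_bot.mp (e ▸ mem_sup_left (mem_zpowers z)))) inferInstance
    fun g hg => norm_sup2 (h1 g hg z (by simp)) (h1 g hg u (by simp))

end Prim

/-- A double transposition. -/
def z4 : Perm (Fin 4) := swap 0 1 * swap 2 3

/-- Another double transposition. -/
def u4 : Perm (Fin 4) := swap 0 2 * swap 1 3

/-- A three-cycle. -/
def r4 : Perm (Fin 4) := swap 1 2 * swap 2 3

theorem Prim.s4 {H : Subgroup G} (d : Prim H) (e : H ≃* Perm (Fin 4)) :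
    (∃ p : ℕ, p.Prime ∧ (p % 16 = 1 ∨ p % 16 = 15) ∧
      Nonempty (G ≃* Matrix.ProjectiveSpecialLinearGroup (Fin 2) (ZMod p))) ∨
    Nonempty (G ≃* Matrix.ProjectiveSpecialLinearGroup (Fin 3) (ZMod 3)) := by
  have : Fact (Nat.Prime 2) := ⟨Nat.prime_two⟩
  obtain ⟨φ, inj, mH⟩ := exists_hom e
  have cH : Nat.card H = 24 := by rw [Nat.card_congr e.toEquiv]; simp [Fintype.card_perm]; rfl
  obtain ⟨hP, t, ht, tH⟩ := d.exists_t mH inj (z := z4) (by decide +kernel) (by decide +kernel)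
  have mP : ∀ p, φ p ∈ H ⊓ centralizer {φ z4} ↔ p * z4 = z4 * p := fun p => by
    rw [mem_inf, mem_centralizer_singleton_iff, ← map_mul, ← map_mul, inj.eq_iff, mH]; simp
  have tP : ∀ p, p * z4 = z4 * p → ∃ q, q * z4 = z4 * q ∧ t * φ p * t⁻¹ = φ q := fun p hp => by
    have h1 := conj_mem_of_mem_normalizer ht ((mP p).mpr hp)
    obtain ⟨q, hq⟩ := (mH _).mp h1.1
    exact ⟨q, (mP q).mp (hq ▸ h1), hq.symm⟩
  have z1 : φ z4 ≠ 1 := map_one φ ▸ inj.ne (by decide)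
  have u1 : φ u4 ≠ 1 := map_one φ ▸ inj.ne (by decide)
  have sq : ∀ {a}, a * a = 1 ↔ φ a * φ a = 1 := by
    intro a; rw [← map_mul, ← map_one φ, inj.eq_iff]
  have cm : ∀ {a b}, a * b = b * a ↔ Commute (φ a) (φ b) := by
    intro a b; rw [commute_iff_eq, ← map_mul, ← map_mul, inj.eq_iff]
  have zz := sq.mp (by decide : z4 * z4 = 1)
  have uu := sq.mp (by decide : u4 * u4 = 1)
  have cu := cm.mp (by decide : u4 * z4 = z4 * u4)
  have hV := d.four z1 zz uu cu fun g hg v hv => by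
    obtain ⟨g, rfl⟩ := (mH g).mp hg
    rcases hv with rfl | rfl <;> simp only [← map_inv, ← map_mul, inj.eq_iff] <;> clear hg <;>
      revert g <;> decide +kernel
  have nV : ∀ g, Commute g (φ z4) → g * φ u4 * g⁻¹ = φ u4 ∨ g * φ u4 * g⁻¹ = φ z4 * φ u4 → g ∈ H :=
    fun g h1 h2 => hV ▸ norm_sup2 (by simp [h1.eq, mem_sup_left]) (by
      rcases h2 with e | e <;> rw [e]
      · exact mem_sup_right (mem_zpowers _)
      · exact mul_mem_sup (mem_zpowers _) (mem_zpowers _))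
  have cV : ∀ g, Commute g (φ u4) → Commute g (φ z4) →
      g = 1 ∨ g = φ u4 ∨ g = φ z4 ∨ g = φ z4 * φ u4 := fun g h1 h2 => by
    obtain ⟨g, rfl⟩ := (mH g).mp (nV g h2 (by simp [h1.eq]))
    simp only [← map_mul, ← map_one φ, inj.eq_iff]
    exact (by decide +kernel : ∀ g : Perm (Fin 4), g * u4 = u4 * g → g * z4 = z4 * g →
      g = 1 ∨ g = u4 ∨ g = z4 ∨ g = z4 * u4) g (cm.mpr h1) (cm.mpr h2)
  have tz : Commute t (φ z4) := by
    obtain ⟨q, h1, h2⟩ := tP (u4 * swap 0 1) (by decide)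
    have h3 : t * φ z4 * t⁻¹ = φ (q * q) := by
      rw [map_mul, ← h2, conj_mul, ← map_mul]; congr 3; decide
    rcases (by decide +kernel : ∀ q, q * z4 = z4 * q → q * q = 1 ∨ q * q = z4) q h1 with e | e <;>
      rw [e] at h3
    · exact absurd (h3.trans (map_one φ)) (CIT.conj_ne_one z1)
    · exact mul_inv_eq_iff_eq_mul.mp h3
  obtain ⟨v, vz, tu⟩ := tP u4 (by decide)
  have vv : v * v = 1 := sq.mpr (tu ▸ CIT.conj_sq uu)
  have vu : v * u4 ≠ u4 * v := fun e => tH (nV t tz (by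
    rcases cV _ (cm.mp e) (cm.mp vz) with e | e | e | e <;> rw [← tu] at e
    · exact absurd e (CIT.conj_ne_one u1)
    · exact Or.inl e
    · rw [mul_inv_eq_iff_eq_mul, ← tz.eq, mul_right_inj] at e
      exact absurd (inj e) (by decide)
    · exact Or.inr e))
  have tt : t * t ∈ H ⊓ centralizer {φ z4} := by
    refine ⟨nV _ (tz.mul_left tz) ?_, mem_centralizer_singleton_iff.mpr (tz.mul_left tz)⟩
    obtain ⟨w, wz, tv⟩ := tP v vz
    rw [show t * t * φ u4 * (t * t)⁻¹ = t * (t * φ u4 * t⁻¹) * t⁻¹ by group, tu, tv, ← map_mul,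
      inj.eq_iff, inj.eq_iff]
    exact (by decide +kernel : ∀ v w, v * z4 = z4 * v → v * v = 1 → v * u4 ≠ u4 * v → w * z4 = z4 * w →
      w * w = 1 → w * v ≠ v * w → w = u4 ∨ w = z4 * u4) v w vz vv vu wz
      (sq.mpr (tv ▸ CIT.conj_sq (sq.mp vv))) fun e => vu (cm.mpr (by
        simpa [← tv, ← tu, mul_assoc] using M11.commute_conj t⁻¹ (cm.mp e)))
  obtain ⟨S, hS, hPS⟩ := exists_isSylowIn_ge (N := ⊤) (IsPGroup.to_sup_of_normal_left' hP
    (CIT.two_of_mem hP tt).of_sq.isPGroup (zpowers_le.mpr ht)) le_top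
  have mS : ∀ p, p * z4 = z4 * p → φ p ∈ S := fun p hp => hPS (mem_sup_left ((mP p).mpr hp))
  obtain ⟨c, hc, c1, -, zc⟩ := exists_central hS.isPGroup fun e => z1 (mem_bot.mp (e ▸ mS _ rfl))
  obtain rfl : c = φ z4 := by
    rcases cV c (zc _ (mS _ (by decide))).symm (zc _ (mS _ rfl)).symm with e | rfl | e | rfl
    · exact absurd e c1
    · exact absurd (cm.mpr (zc _ (mS v vz))) vu
    · exact e
    · exact absurd (cm.mpr (by simpa using (cm.mp vz).inv_right.mul_right (zc _ (mS v vz)))) vu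
  obtain ⟨n, a, ord, hz, nb, h1, h2⟩ := suzuki hS.isPGroup (mS u4 (by decide)) hc uu zz z1 u1
    (inj.ne (by decide)) zc (fun x hx h => cV x h (zc x hx)) ⟨_, mS v vz, fun e => vu (cm.mpr e)⟩
  have uN : φ u4 * a * (φ u4)⁻¹ ∈ zpowers a := by
    rcases h2 with e | ⟨-, e⟩ <;> rw [e]
    · exact inv_mem (mem_zpowers a)
    · exact pow_mem (mem_zpowers a) _
  obtain ⟨n, rfl⟩ : ∃ m, n = m + 1 := Nat.exists_eq_succ_of_ne_zero (by
    rintro rfl
    refine tH ((show S ≤ H from h1 ▸ sup_le (zpowers_le.mpr (nV a (zc a (h1 ▸ mem_sup_left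
      (mem_zpowers a))) (Or.inr ?_))) (zpowers_le.mpr ((mH _).mpr ⟨_, rfl⟩)))
      (hPS (mem_sup_right (mem_zpowers t))))
    rw [← (h2.resolve_right fun e => by omega), hz]
    simp [_root_.sq, mul_assoc, inv_eq_of_mul_eq_one_right uu, ← mul_assoc (φ u4) (φ u4), uu])
  have cS : Nat.card S = 2 ^ (n + 4) := by
    rw [h1, card_sup2 (zpowers_le.mp (norm_zpowers uN)) (uu ▸ one_mem _) nb, Nat.card_zpowers, ord,
      pow_succ 2 (n + 3)]
  have syl := not_dvd_of_sylow hS cS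
  have ρz : φ r4 * φ z4 * (φ r4)⁻¹ = φ u4 := by rw [← map_inv, ← map_mul, ← map_mul]; congr 1; decide
  have key : ∀ N : Subgroup G, N.Normal → φ z4 ∈ N → N = ⊤ := fun N hN hz => by
    have h3 : ∀ a, a * a = 1 → φ a ∈ N := fun a ha => by
      rcases (by decide +kernel : ∀ v a, v * z4 = z4 * v → v * v = 1 → v * u4 ≠ u4 * v → a * a = 1 →
        a = 1 ∨ ∃ g, a = g * z4 * g⁻¹ ∨ a = g * v * g⁻¹) v a vz vv vu ha with rfl | ⟨g, rfl | rfl⟩
      · simp
      · simpa using hN.conj_mem _ hz (φ g)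
      · simpa using hN.conj_mem _ (tu ▸ hN.conj_mem _ (ρz ▸ hN.conj_mem _ hz _) t) (φ g)
    have h4 : H ≤ N := fun g hg => by
      obtain ⟨g, rfl⟩ := (mH g).mp hg
      obtain ⟨a, ha, hb⟩ := (by decide +kernel : ∀ g : Perm (Fin 4), ∃ a, a * a = 1 ∧ a * g * (a * g) = 1) g
      exact (mul_mem_cancel_left (h3 a ha)).mp (map_mul φ a g ▸ h3 _ hb)
    exact d.co.2 _ (lt_of_le_of_ne h4 fun e => z1 (mem_bot.mp (d.core N hN e.ge ▸ hz)))
  have H2 : ∀ M : Subgroup G, M.index ≠ 2 := fun M hM => by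
    have := key M (normal_of_index_eq_two hM) (by
      rw [hz, pow_succ 2, pow_mul]; exact sq_mem_of_index_two hM _)
    simp [this] at hM
  have : Nontrivial G := ⟨_, _, z1⟩
  have : IsSimpleGroup G := ⟨fun N hN => by
    by_cases h3 : 2 ∣ Nat.card N
    · obtain ⟨s, hs, h4⟩ := exists_mem_orderOf_eq_of_dvd_card Nat.prime_two h3
      obtain ⟨g, hg⟩ := isConj_iff.mp (one_class H2 ord uN uu nb syl (ne_one_of_orderOf_eq_prime
        Nat.prime_two h4) (by rw [← _root_.sq, ← h4, pow_orderOf_eq_one])).symm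
      exact Or.inr (key N hN (hz ▸ hg ▸ hN.conj_mem s hs g))
    · exact Or.inl (d.eq_bot_of_odd hN h3 (k := 4) ((pow_dvd_pow 2 (by omega)).trans
        (cS ▸ card_subgroup_dvd_card S)) (by rw [cH]; decide))⟩
  rcases h2 with h2 | ⟨-, h2⟩
  · exact Or.inl (DH.main ⟨ord, hz, uu, h2, syl, cV, d.co, hV, (mH _).mpr ⟨_, rfl⟩, ρz⟩)
  refine (SD.main ⟨ord, uu, h2, syl, hz ▸ cV⟩).elim Or.inr fun ⟨e⟩ => ?_
  obtain ⟨M, h3, h4, h5⟩ := not_m11 e z1 zz uu cu (by
    simp only [← map_mul, inj.eq_iff]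
    exact (by decide +kernel : ∀ v, v * z4 = z4 * v → v * v = 1 → v * u4 ≠ u4 * v →
      u4 * v = v * u4 * z4) v vz vv vu) tz tu
  exact absurd (d.top_of (hV ▸ h5) h4 tH) h3

end Cfsg.Agent.Wong
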